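import Cfsg.Agent.Lib.Helper95.J3.Core1

set_option autoImplicit false

namespace Cfsg.Agent.Lib.Helper95.J3

open Cfsg.Spor

/-- the elements `x ^ e ω ^ b` -/
def l51Computed : List Nat :=
  (List.range 17).flatMap fun e => (List.range 3).map fun b => mul (ppow e xP) (Wp b)

theorem l51_eq : L51 = l51Computed := by decide +kernel

theorem l51_spec : ∀ a, a ∈ L51 → ∃ e < 17, ∃ b < 3, a = mul (ppow e xP) (Wp b) := by
  intro a ha
  rw [l51_eq, l51Computed, List.mem_flatMap] at ha
  obtain ⟨e, he, ha⟩ := ha
  rw [List.mem_map] at ha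
  obtain ⟨b, hb, rfl⟩ := ha
  exact ⟨e, List.mem_range.mp he, b, List.mem_range.mp hb, rfl⟩

theorem genCert (cert tab : F9 → Nat)
    (h : ∀ Z : F9, cert Z / 8192 < nR ∧ cert Z % 8192 < nK ∧
      tab Z = mul (repOf (cert Z / 8192)) (kOf (cert Z % 8192))) :
    ∀ Z : F9, ∃ i < nR, ∃ l < nK, tab Z = mul (repOf i) (kOf l) :=
  fun Z => ⟨_, (h Z).1, _, (h Z).2.1, (h Z).2.2⟩

theorem genCert' (cert tab : F9 → Nat)
    (h : ∀ Z : F9, Z ≠ 0 → cert Z / 8192 < nR ∧ cert Z % 8192 < nK ∧
      tab Z = mul (repOf (cert Z / 8192)) (kOf (cert Z % 8192))) :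
    ∀ Z : F9, Z ≠ 0 → ∃ i < nR, ∃ l < nK, tab Z = mul (repOf i) (kOf l) :=
  fun Z hZ => ⟨_, (h Z hZ).1, _, (h Z hZ).2.1, (h Z hZ).2.2⟩

theorem misc_all : Misc where
  x17 := by decide +kernel
  v17 := by decide +kernel
  xword := by decide +kernel
  vword := by decide +kernel
  cc := by decide +kernel
  dd := by decide +kernel
  dd' := by decide +kernel
  ctab := by decide +kernel
  dtab := by decide +kernel
  rep0 := by decide +kernel
  k0 := by decide +kernel
  kW := by decide +kernel
  i0lt := by decide +kernel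
  l0lt := by decide +kernel
  lWlt := by decide +kernel
  kap := by decide +kernel
  iKaplt := by decide +kernel
  jKaplt := by decide +kernel
  wp0 := by decide +kernel
  w2p0 := by decide +kernel
  w2 := by decide +kernel
  p0lt := by decide +kernel
  l51 := l51_spec
  center := by decide +kernel
  genA := genCert certA tabA (by decide +kernel)
  genE := genCert certE tabE (by decide +kernel)
  genD := genCert certD tabD (by decide +kernel)
  genB := genCert' certB tabB (by decide +kernel)
  genC := genCert' certC tabC (by decide +kernel)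

end Cfsg.Agent.Lib.Helper95.J3
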