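import Mathlib

set_option autoImplicit false

/-! A simplicity criterion: a finite group with a self-centralising subgroup `⟨y⟩` of prime order
`p`, `p²` not dividing the order, generated by the conjugates of `y`, and such that no prime power
`q ^ a ≠ 1` dividing the order with `q ≠ p` is `≡ 1 (mod p)`, is simple. -/

namespace Cfsg.Agent.Lib.Helper95.J3

open Subgroup
open scoped Pointwise

section
variable {Γ : Type*} [Group Γ] [Finite Γ] {p : ℕ} [hp : Fact p.Prime]

/-- the fixed point congruence for conjugation by an element of order `p` on an invariant subgroup -/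
theorem conj_fixed_modEq (y : Γ) (hy : y ^ p = 1) (H : Subgroup Γ)
    (hH : ∀ h ∈ H, y * h * y⁻¹ ∈ H) :
    Nat.card H ≡ Nat.card {h : H // y * (h : Γ) * y⁻¹ = (h : Γ)} [MOD p] := by
  classical
  haveI := Fintype.ofFinite H
  let f : Function.End H := fun h => ⟨y * h * y⁻¹, hH h h.2⟩
  have hpow : ∀ (k : ℕ) (h : H), (((f ^ k) h : H) : Γ) = y ^ k * h * (y ^ k)⁻¹ := by
    intro k
    induction k with
    | zero =>
      intro h
      simp only [pow_zero, one_mul, inv_one, mul_one]
      rfl
    | succ k ih =>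
      intro h
      rw [pow_succ']
      show y * ((f ^ k) h : Γ) * y⁻¹ = _
      rw [ih, pow_succ', mul_inv_rev]
      simp only [mul_assoc]
  have hf : f ^ p ^ 1 = 1 := by
    rw [pow_one]
    funext h
    apply Subtype.ext
    rw [hpow, hy, one_mul, inv_one, mul_one]
    rfl
  have key := Equiv.Perm.card_fixedPoints_modEq (p := p) (n := 1) hf
  rw [← Nat.card_eq_fintype_card, ← Nat.card_eq_fintype_card] at key
  have e : Nat.card (Function.fixedPoints f) = Nat.card {h : H // y * (h : Γ) * y⁻¹ = (h : Γ)} := by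
    apply Nat.card_congr
    apply Equiv.subtypeEquivRight
    intro h
    rw [Function.mem_fixedPoints, Function.IsFixedPt]
    exact Subtype.ext_iff
  rw [e] at key
  exact key

end

/-- The criterion. -/
theorem isSimpleGroup_of_prime_elt {Γ : Type*} [Group Γ] [Finite Γ] (p : ℕ) [hp : Fact p.Prime]
    (y : Γ) (hy : y ^ p = 1) (hy1 : y ≠ 1)
    (hcent : ∀ g : Γ, g * y = y * g → g ∈ zpowers y)
    (hnc : ∀ N : Subgroup Γ, N.Normal → y ∈ N → N = ⊤)
    (harith : ∀ q a : ℕ, q.Prime → q ≠ p → 0 < a → q ^ a ∣ Nat.card Γ → q ^ a % p ≠ 1) :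
    IsSimpleGroup Γ := by
  have hord : orderOf y = p := orderOf_eq_prime hy hy1
  have hcardz : Nat.card (zpowers y) = p := by rw [Nat.card_zpowers, hord]
  haveI : Nontrivial Γ := ⟨⟨y, 1, hy1⟩⟩
  refine ⟨fun N hN => ?_⟩
  by_contra hcon
  rw [not_or] at hcon
  obtain ⟨hbot, htop⟩ := hcon
  have hyN : y ∉ N := fun h => htop (hnc N hN h)
  have hinv : ∀ h ∈ N, y * h * y⁻¹ ∈ N := fun h hh => hN.conj_mem h hh y
  -- the fixed points of `y` on `N`
  have hfixN : ∀ h : N, y * (h : Γ) * y⁻¹ = (h : Γ) → h = 1 := by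
    intro h hh
    by_contra h1
    have hcomm : (h : Γ) * y = y * (h : Γ) := by
      calc (h : Γ) * y = (y * (h : Γ) * y⁻¹) * y := by rw [hh]
        _ = y * (h : Γ) := by group
    have hmem : (h : Γ) ∈ zpowers y := hcent h hcomm
    -- then `y` is a power of `h`
    have hne : (⟨(h : Γ), hmem⟩ : zpowers y) ≠ 1 := by
      intro e
      apply h1
      apply Subtype.ext
      exact congrArg (Subtype.val : zpowers y → Γ) e
    have := mem_zpowers_of_prime_card hcardz hne (g' := ⟨y, mem_zpowers y⟩)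
    obtain ⟨k, hk⟩ := Subgroup.mem_zpowers_iff.mp this
    have hk' : (h : Γ) ^ k = y := by
      have := congrArg Subtype.val hk
      simpa using this
    exact hyN (hk' ▸ N.zpow_mem h.2 k)
  have hcardN : Nat.card N ≡ 1 [MOD p] := by
    have e : Nat.card {h : N // y * (h : Γ) * y⁻¹ = (h : Γ)} = 1 := by
      rw [Nat.card_eq_one_iff_unique]
      refine ⟨⟨fun a b => ?_⟩, ⟨⟨1, by simp⟩⟩⟩
      apply Subtype.ext
      rw [hfixN a.1 a.2, hfixN b.1 b.2]
    have := conj_fixed_modEq y hy N hinv
    rwa [e] at this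
  -- a prime `q` dividing the order of `N`
  have hN1 : Nat.card N ≠ 1 := by
    intro h
    exact hbot ((Subgroup.card_eq_one).mp h)
  obtain ⟨q, hq, hqN⟩ := Nat.exists_prime_and_dvd hN1
  haveI : Fact q.Prime := ⟨hq⟩
  have hp1 : 1 < p := hp.out.one_lt
  have hqp : q ≠ p := by
    rintro rfl
    have : Nat.card N % q = 1 % q := hcardN
    rw [Nat.mod_eq_zero_of_dvd hqN, Nat.mod_eq_of_lt hp1] at this
    exact absurd this (by norm_num)
  -- a Sylow `q`-subgroup of `N` fixed by `y`
  have hpN : ¬ p ∣ Nat.card N := by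
    intro h
    have : Nat.card N % p = 1 % p := hcardN
    rw [Nat.mod_eq_zero_of_dvd h, Nat.mod_eq_of_lt hp1] at this
    exact absurd this (by norm_num)
  have hpS : ¬ p ∣ Nat.card (Sylow q N) := by
    intro h
    obtain ⟨P⟩ : Nonempty (Sylow q N) := inferInstance
    have h1 : Nat.card (Sylow q N) ∣ Nat.card N :=
      (P.card_dvd_index).trans (Subgroup.index_dvd_card _)
    exact hpN (h.trans h1)
  classical
  haveI : Fintype (Sylow q N) := Fintype.ofFinite _
  let g : ConjAct Γ := ConjAct.toConjAct y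
  let σ : Equiv.Perm (Sylow q N) := MulAction.toPerm g
  have hσ : σ ^ p ^ 1 = 1 := by
    rw [pow_one]
    show (MulAction.toPermHom (ConjAct Γ) (Sylow q N) g) ^ p = 1
    rw [← map_pow]
    have : g ^ p = 1 := by
      show (ConjAct.toConjAct y) ^ p = 1
      rw [← map_pow, hy, map_one]
    rw [this, map_one]
  obtain ⟨Q, hQ⟩ := Equiv.Perm.exists_fixed_point_of_prime (p := p) (n := 1)
    (by rwa [Nat.card_eq_fintype_card] at hpS) hσ
  have hQ' : g • Q = Q := hQ
  -- the image of `Q` in `Γ`
  let H : Subgroup Γ := (Q : Subgroup N).map N.subtype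
  have hHinv : ∀ h ∈ H, y * h * y⁻¹ ∈ H := by
    rintro _ ⟨h, hh, rfl⟩
    refine ⟨g • h, ?_, ?_⟩
    · have : g • h ∈ g • (Q : Subgroup N) := Subgroup.smul_mem_pointwise_smul h g _ hh
      rw [← Sylow.pointwise_smul_def, hQ'] at this
      exact this
    · show ((g • h : N) : Γ) = _
      rw [ConjAct.Subgroup.val_conj_smul, ConjAct.smul_def]
      rfl
  have hcardH : Nat.card H = Nat.card Q :=
    Nat.card_congr ((Q : Subgroup N).equivMapOfInjective N.subtype N.subtype_injective).symm.toEquiv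
  have hfixH : ∀ h : H, y * (h : Γ) * y⁻¹ = (h : Γ) → h = 1 := by
    intro h hh
    obtain ⟨h', hh', e⟩ := h.2
    have : h' = 1 := hfixN h' (by rw [show ((h' : N) : Γ) = (h : Γ) from e]; exact hh)
    apply Subtype.ext
    rw [← e, this]
    rfl
  have hcardH1 : Nat.card H ≡ 1 [MOD p] := by
    have e : Nat.card {h : H // y * (h : Γ) * y⁻¹ = (h : Γ)} = 1 := by
      rw [Nat.card_eq_one_iff_unique]
      refine ⟨⟨fun a b => ?_⟩, ⟨⟨1, by simp⟩⟩⟩
      apply Subtype.ext
      rw [hfixH a.1 a.2, hfixH b.1 b.2]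
    have := conj_fixed_modEq y hy H hHinv
    rwa [e] at this
  have hQcard : Nat.card Q = q ^ (Nat.card N).factorization q := Q.card_eq_multiplicity
  have hapos : 0 < (Nat.card N).factorization q :=
    (hq.factorization_pos_of_dvd Nat.card_pos.ne' hqN)
  have hdvd : q ^ (Nat.card N).factorization q ∣ Nat.card Γ :=
    (Nat.ordProj_dvd _ _).trans (Subgroup.card_subgroup_dvd_card N)
  have := harith q _ hq hqp hapos hdvd
  apply this
  rw [← hQcard, ← hcardH]
  have h2 : Nat.card H % p = 1 % p := hcardH1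
  rwa [Nat.mod_eq_of_lt hp1] at h2

/-- The criterion for the quotient by the centre. -/
theorem isSimpleGroup_quot_center {G : Type*} [Group G] [Finite G] (p : ℕ) [hp : Fact p.Prime]
    (x : G) (hx : x ^ p = 1) (hxZ : x ∉ center G)
    (hZ : (Nat.card (center G)).Coprime p)
    (hcent : ∀ g : G, g * x = x * g → ∃ k : ℤ, ∃ z ∈ center G, g = x ^ k * z)
    (hnc : ∀ N : Subgroup G, N.Normal → x ∈ N → center G ≤ N → N = ⊤)
    (harith : ∀ q a : ℕ, q.Prime → q ≠ p → 0 < a → q ^ a ∣ Nat.card G → q ^ a % p ≠ 1) :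
    IsSimpleGroup (G ⧸ center G) := by
  let π : G →* G ⧸ center G := QuotientGroup.mk' (center G)
  have hπ : ∀ g : G, π g = 1 ↔ g ∈ center G := fun g => QuotientGroup.eq_one_iff g
  have hsurj : Function.Surjective π := QuotientGroup.mk'_surjective _
  apply isSimpleGroup_of_prime_elt p (π x)
  · rw [← map_pow, hx, map_one]
  · rw [Ne, hπ]; exact hxZ
  · intro γ hγ
    obtain ⟨g, rfl⟩ := hsurj γ
    rw [← map_mul, ← map_mul] at hγ
    have hz : (x * g)⁻¹ * (g * x) ∈ center G := by
      rw [← hπ, map_mul, map_inv, hγ, inv_mul_cancel]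
    set z := (x * g)⁻¹ * (g * x) with hzdef
    have hgx : g * x = x * g * z := by rw [hzdef]; group
    have hzc : ∀ a : G, z * a = a * z := fun a => (Subgroup.mem_center_iff.mp hz a).symm
    have hconj : g * x * g⁻¹ = x * z := by
      rw [hgx, mul_assoc, mul_assoc, hzc g⁻¹, ← mul_assoc g, mul_inv_cancel, one_mul]
    have hzp : z ^ p = 1 := by
      have h1 : (g * x * g⁻¹) ^ p = 1 := by
        rw [conj_pow, hx, mul_one, mul_inv_cancel]
      rw [hconj, (show Commute x z from (hzc x).symm).mul_pow, hx, one_mul] at h1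
      exact h1
    have hz1 : z = 1 := by
      have h1 : orderOf z ∣ p := orderOf_dvd_of_pow_eq_one hzp
      have h2 : orderOf z ∣ Nat.card (center G) := by
        have := orderOf_dvd_natCard (⟨z, hz⟩ : center G)
        rwa [Subgroup.orderOf_mk] at this
      have h3 : orderOf z ∣ 1 := by
        have := Nat.dvd_gcd h2 h1
        rwa [Nat.Coprime.gcd_eq_one hZ] at this
      exact orderOf_eq_one_iff.mp (Nat.dvd_one.mp h3)
    rw [hz1, mul_one] at hgx
    obtain ⟨k, z', hz', e⟩ := hcent g hgx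
    rw [Subgroup.mem_zpowers_iff]
    refine ⟨k, ?_⟩
    rw [e, map_mul, map_zpow, (hπ z').mpr hz', mul_one]
  · intro N hN hyN
    have h1 : N.comap π = ⊤ := by
      apply hnc (N.comap π) (hN.comap π) hyN
      intro z hz
      show π z ∈ N
      rw [(hπ z).mpr hz]
      exact N.one_mem
    rw [eq_top_iff]
    intro γ _
    obtain ⟨g, rfl⟩ := hsurj γ
    have : g ∈ N.comap π := by rw [h1]; exact Subgroup.mem_top g
    exact this
  · intro q a hq hqp ha hdvd
    apply harith q a hq hqp ha
    exact hdvd.trans (Subgroup.card_quotient_dvd_card (center G))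

end Cfsg.Agent.Lib.Helper95.J3
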