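import Cfsg.Agent.Lib.Helper95.J3.Core4
import Cfsg.Agent.Lib.Helper95.J3.Simple17

set_option autoImplicit false

/-! The centre, the order of the quotient and its simplicity. -/

namespace Cfsg.Agent.Lib.Helper95.J3

open Cfsg.Spor
open scoped MatrixGroups

theorem arith17 : ∀ q a : ℕ, q.Prime → q ≠ 17 → 0 < a → q ^ a ∣ 150698880 → q ^ a % 17 ≠ 1 := by
  intro q a hq hne ha hd
  have hqd : q ∣ 2 ^ 7 * 3 ^ 6 * 5 * 17 * 19 := by
    have : q ∣ 150698880 := dvd_trans (dvd_pow_self q ha.ne') hd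
    norm_num
    exact this
  have hcases : q = 2 ∨ q = 3 ∨ q = 5 ∨ q = 19 := by
    rcases (Nat.Prime.dvd_mul hq).mp hqd with h | h
    · rcases (Nat.Prime.dvd_mul hq).mp h with h | h
      · rcases (Nat.Prime.dvd_mul hq).mp h with h | h
        · rcases (Nat.Prime.dvd_mul hq).mp h with h | h
          · exact Or.inl ((Nat.prime_dvd_prime_iff_eq hq Nat.prime_two).mp (hq.dvd_of_dvd_pow h))
          · exact Or.inr (Or.inl
              ((Nat.prime_dvd_prime_iff_eq hq Nat.prime_three).mp (hq.dvd_of_dvd_pow h)))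
        · exact Or.inr (Or.inr (Or.inl ((Nat.prime_dvd_prime_iff_eq hq Nat.prime_five).mp h)))
      · exact absurd ((Nat.prime_dvd_prime_iff_eq hq (by norm_num)).mp h) hne
    · exact Or.inr (Or.inr (Or.inr ((Nat.prime_dvd_prime_iff_eq hq (by norm_num)).mp h)))
  rcases hcases with rfl | rfl | rfl | rfl
  · have hle : a ≤ 7 := by
      by_contra hcon
      have h8 : 2 ^ 8 ∣ 150698880 := dvd_trans (pow_dvd_pow 2 (by omega)) hd
      norm_num at h8
    interval_cases a <;> norm_num
  · have hle : a ≤ 6 := by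
      by_contra hcon
      have h8 : 3 ^ 7 ∣ 150698880 := dvd_trans (pow_dvd_pow 3 (by omega)) hd
      norm_num at h8
    interval_cases a <;> norm_num
  · have hle : a ≤ 1 := by
      by_contra hcon
      have h8 : 5 ^ 2 ∣ 150698880 := dvd_trans (pow_dvd_pow 5 (by omega)) hd
      norm_num at h8
    interval_cases a <;> norm_num
  · have hle : a ≤ 1 := by
      by_contra hcon
      have h8 : 19 ^ 2 ∣ 150698880 := dvd_trans (pow_dvd_pow 19 (by omega)) hd
      norm_num at h8
    interval_cases a <;> norm_num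

namespace Ctx

variable {F : Type*} [Field F] (c : Ctx F)

theorem inU_WI : c.InU WI := by
  rw [← c.fc.misc.kW]
  exact c.inU_k lW c.fc.misc.lWlt

/-- the scalar `ω` as a unit -/
noncomputable def Wu : GL F9 F := c.inU_WI.choose

theorem Wu_mem : c.Wu ∈ c.U := c.inU_WI.choose_spec.1

theorem Wu_val : (c.Wu : Matrix F9 F9 F) = c.ω • (1 : Matrix F9 F9 F) := by
  rw [← c.S_WI]; exact c.inU_WI.choose_spec.2

/-- the element of order 17 in the group -/
noncomputable def x' : c.U := ⟨c.Xu, c.Xu_mem⟩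
/-- its conjugate in the group -/
noncomputable def v' : c.U := ⟨c.Vu, c.Vu_mem⟩
/-- the conjugating element in the group -/
noncomputable def c' : c.U := ⟨c.Cu, c.Cu_mem⟩
/-- the scalar in the group -/
noncomputable def w' : c.U := ⟨c.Wu, c.Wu_mem⟩

theorem ext_U {g h : c.U} (e : ((g : GL F9 F) : Matrix F9 F9 F) = ((h : GL F9 F) : Matrix F9 F9 F)) :
    g = h := Subtype.ext (Units.ext e)

theorem val_mul_U (g h : c.U) :
    (((g * h : c.U) : GL F9 F) : Matrix F9 F9 F) =
      ((g : GL F9 F) : Matrix F9 F9 F) * ((h : GL F9 F) : Matrix F9 F9 F) := rfl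

theorem val_pow_U (g : c.U) (n : ℕ) :
    (((g ^ n : c.U) : GL F9 F) : Matrix F9 F9 F) = ((g : GL F9 F) : Matrix F9 F9 F) ^ n := by
  rw [Subgroup.coe_pow, Units.val_pow_eq_pow_val]

theorem x'_val : ((c.x' : GL F9 F) : Matrix F9 F9 F) = c.S xP := c.Xu_val
theorem v'_val : ((c.v' : GL F9 F) : Matrix F9 F9 F) = c.S vP := c.Vu_val
theorem w'_val : ((c.w' : GL F9 F) : Matrix F9 F9 F) = c.ω • (1 : Matrix F9 F9 F) := c.Wu_val

theorem w'_central : c.w' ∈ Subgroup.center c.U := by
  rw [Subgroup.mem_center_iff]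
  intro g
  apply c.ext_U
  rw [c.val_mul_U, c.val_mul_U, c.w'_val, Matrix.mul_smul, Matrix.smul_mul, mul_one, one_mul]

theorem w'_pow (b : ℕ) :
    (((c.w' ^ b : c.U) : GL F9 F) : Matrix F9 F9 F) = (c.ω ^ b) • (1 : Matrix F9 F9 F) := by
  rw [c.val_pow_U, c.w'_val, smul_pow, one_pow]

theorem w'_cube : c.w' ^ 3 = 1 := by
  apply c.ext_U
  rw [c.w'_pow, c.omega_cube, one_smul]
  rfl

theorem w'_ne_one : c.w' ≠ 1 := by
  intro h
  have h1 := congrArg (fun g : c.U => ((g : GL F9 F) : Matrix F9 F9 F) 0 0) h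
  simp only [c.w'_val] at h1
  have h2 : (c.ω • (1 : Matrix F9 F9 F)) 0 0 = c.ω := by simp
  have h3 : (((1 : c.U) : GL F9 F) : Matrix F9 F9 F) 0 0 = 1 := by simp
  rw [h2, h3] at h1
  exact omega_ne_one c.h2 c.hω h1

theorem orderOf_w' : orderOf c.w' = 3 := by
  haveI : Fact (Nat.Prime 3) := ⟨Nat.prime_three⟩
  exact orderOf_eq_prime c.w'_cube c.w'_ne_one

/-- elements commuting with the element of order 17 -/
theorem centralizer_x' (g : c.U) (hg : g * c.x' = c.x' * g) :
    ∃ e, e < 17 ∧ ∃ b, b < 3 ∧ g = c.x' ^ e * c.w' ^ b ∧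
      ((g : GL F9 F) : Matrix F9 F9 F) = c.S (mul (ppow e xP) (Wp b)) := by
  have h1 : (g : GL F9 F) * c.Xu = c.Xu * (g : GL F9 F) := congrArg Subtype.val hg
  obtain ⟨e, he, b, hb, e1, e2⟩ := c.centralizer_x g g.2 h1
  refine ⟨e, he, b, hb, ?_, e2⟩
  apply c.ext_U
  rw [c.val_mul_U, c.val_pow_U, c.x'_val, c.w'_pow, e1]

theorem center_le : ∀ z : c.U, z ∈ Subgroup.center c.U → ∃ b, b < 3 ∧ z = c.w' ^ b := by
  intro z hz
  rw [Subgroup.mem_center_iff] at hz
  obtain ⟨e, he, b, hb, e1, e2⟩ := c.centralizer_x' z (hz c.x').symm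
  have hv := hz c.v'
  have hv' : c.S vP * c.S (mul (ppow e xP) (Wp b)) = c.S (mul (ppow e xP) (Wp b)) * c.S vP := by
    have := congrArg (fun g : c.U => ((g : GL F9 F) : Matrix F9 F9 F)) hv
    simp only [c.val_mul_U, c.v'_val, e2] at this
    exact this
  have h0 : e = 0 := by
    apply c.fc.misc.center e he b hb
    apply c.S_inj (mul_lt _ _) (mul_lt _ _)
    rw [c.S_mul, c.S_mul (a := vP), hv']
  subst h0
  exact ⟨b, hb, by rw [e1, pow_zero, one_mul]⟩

theorem center_eq : Subgroup.center c.U = Subgroup.zpowers c.w' := by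
  apply le_antisymm
  · intro z hz
    obtain ⟨b, -, rfl⟩ := c.center_le z hz
    exact Subgroup.npow_mem_zpowers _ _
  · rw [Subgroup.zpowers_le]
    exact c.w'_central

theorem card_center : Nat.card (Subgroup.center c.U) = 3 := by
  rw [c.center_eq, Nat.card_zpowers, c.orderOf_w']

theorem x'_pow : c.x' ^ 17 = 1 := Subtype.ext c.Xu_pow

theorem x'_not_central : c.x' ∉ Subgroup.center c.U := by
  intro h
  obtain ⟨b, hb, e⟩ := c.center_le _ h
  -- then `x'` commutes with `v'`, which the certificate excludes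
  rw [Subgroup.mem_center_iff] at h
  have hv := h c.v'
  have hv' : c.S vP * c.S xP = c.S xP * c.S vP := by
    have := congrArg (fun g : c.U => ((g : GL F9 F) : Matrix F9 F9 F)) hv
    simp only [c.val_mul_U, c.v'_val, c.x'_val] at this
    exact this
  have hS : c.S (mul (ppow 1 xP) (Wp 0)) = c.S xP := by
    rw [c.S_mul, c.S_ppow, pow_one, c.S_Wp 0 (by norm_num), pow_zero, one_smul, mul_one]
  have : (1 : ℕ) = 0 := by
    apply c.fc.misc.center 1 (by norm_num) 0 (by norm_num)
    apply c.S_inj (mul_lt _ _) (mul_lt _ _)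
    rw [c.S_mul, c.S_mul (a := vP), hS, hv']
  exact absurd this (by norm_num)

theorem v'_eq : c.v' = c.c' * c.x' * (c.c')⁻¹ := by
  apply Subtype.ext
  show c.Vu = c.Cu * c.Xu * c.Cu⁻¹
  rw [c.Cu_inv, c.Vu_word]

theorem normal_closure (N : Subgroup c.U) (hN : N.Normal) (hx : c.x' ∈ N) : N = ⊤ := by
  have hv : c.v' ∈ N := by rw [c.v'_eq]; exact hN.conj_mem _ hx _
  have key : ∀ u (hu : u ∈ Subgroup.closure {c.Xu, c.Vu}), (⟨u, hu⟩ : c.U) ∈ N := by
    intro u hu
    induction hu using Subgroup.closure_induction with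
    | mem y hy =>
      rcases hy with rfl | hy
      · exact hx
      · have : y = c.Vu := Set.mem_singleton_iff.mp hy
        subst this
        exact hv
    | one => exact N.one_mem
    | mul a b ha hb iha ihb => exact N.mul_mem iha ihb
    | inv a ha iha => exact N.inv_mem iha
  rw [eq_top_iff]
  intro g _
  exact key g.1 g.2

/-- the main theorem for the group generated by the two elements of order 17 -/
theorem main_U [Finite F] :
    Nat.card (Subgroup.center c.U) = 3 ∧ Nat.card c.U = 150698880 ∧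
      Nat.card (c.U ⧸ Subgroup.center c.U) = 50232960 ∧
      IsSimpleGroup (c.U ⧸ Subgroup.center c.U) := by
  have hcard : Nat.card c.U = 150698880 := by rw [c.card_U]; rfl
  have hquot : Nat.card (c.U ⧸ Subgroup.center c.U) = 50232960 := by
    have := Subgroup.card_eq_card_quotient_mul_card_subgroup (Subgroup.center c.U)
    rw [hcard, c.card_center] at this
    omega
  refine ⟨c.card_center, hcard, hquot, ?_⟩
  haveI : Fact (Nat.Prime 17) := ⟨by norm_num⟩
  apply isSimpleGroup_quot_center 17 c.x' c.x'_pow c.x'_not_central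
  · rw [c.card_center]; norm_num
  · intro g hg
    obtain ⟨e, -, b, -, e1, -⟩ := c.centralizer_x' g hg
    exact ⟨e, c.w' ^ b, Subgroup.pow_mem _ c.w'_central _, by rw [zpow_natCast, e1]⟩
  · intro N hN hx _
    exact c.normal_closure N hN hx
  · rw [hcard]
    exact arith17

theorem main [Finite F] (H : Subgroup (GL F9 F)) (hH : H = c.U) :
    Nat.card (Subgroup.center H) = 3 ∧ Nat.card H = 150698880 ∧
      Nat.card (H ⧸ Subgroup.center H) = 50232960 ∧ IsSimpleGroup (H ⧸ Subgroup.center H) := by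
  subst hH
  exact c.main_U

end Ctx

end Cfsg.Agent.Lib.Helper95.J3
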