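import Cfsg.Agent.Lib.Helper95.J3.CheckSch1
import Cfsg.Agent.Lib.Helper95.J3.CheckSch2
import Cfsg.Agent.Lib.Helper95.J3.CheckSch3
import Cfsg.Agent.Lib.Helper95.J3.CheckSch4
import Cfsg.Agent.Lib.Helper95.J3.CheckSort1
import Cfsg.Agent.Lib.Helper95.J3.CheckSort2
import Cfsg.Agent.Lib.Helper95.J3.CheckPar
import Cfsg.Agent.Lib.Helper95.J3.CheckK
import Cfsg.Agent.Lib.Helper95.J3.CheckMisc
import Cfsg.Agent.Lib.Helper95.J3.Core5

set_option autoImplicit false

/-! All the checks of the certificate together, and the main theorem for a field with four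
elements. -/

namespace Cfsg.Agent.Lib.Helper95.J3

open Cfsg.Spor
open scoped MatrixGroups

theorem facts_all : Facts where
  sch := by
    intro i hi
    have hi' : i < 20520 := hi
    by_cases h1 : i < 5130
    · exact allFrom_spec 0 5130 chkSch chkSch_1 i (by omega) (by omega)
    · by_cases h2 : i < 10260
      · exact allFrom_spec 5130 5130 chkSch chkSch_2 i (by omega) (by omega)
      · by_cases h3 : i < 15390
        · exact allFrom_spec 10260 5130 chkSch chkSch_3 i (by omega) (by omega)
        · exact allFrom_spec 15390 5130 chkSch chkSch_4 i (by omega) (by omega)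
  par := by
    intro i hi
    have hi' : i < 20520 := hi
    exact allFrom_spec 0 20520 chkPar chkPar_all i (by omega) (by omega)
  sort := by
    intro i hi
    have hi' : i + 1 < 20520 := hi
    by_cases h1 : i < 10260
    · exact allFrom_spec 0 10260 chkSort chkSort_1 i (by omega) (by omega)
    · exact allFrom_spec 10260 10259 chkSort chkSort_2 i (by omega) (by omega)
  fix := by
    intro i hi
    have hi' : i < 20520 := hi
    exact allFrom_spec 0 20520 chkFix chkFix_all i (by omega) (by omega)
  kk := by
    intro l hl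
    have hl' : l < 7344 := hl
    exact allFrom_spec 0 7344 chkK chkK_all l (by omega) (by omega)
  ksort := by
    intro l hl
    have hl' : l + 1 < 7344 := hl
    exact allFrom_spec 0 7343 chkKSort chkKSort_all l (by omega) (by omega)
  misc := misc_all

theorem two_eq_zero_of_card {F : Type*} [Field F] [Fintype F] (hF : Fintype.card F = 4) :
    (2 : F) = 0 := by
  have h4 : ((4 : ℕ) : F) = 0 := by rw [← hF]; exact Nat.cast_card_eq_zero F
  have h22 : (2 : F) * 2 = 0 := by
    rw [← h4]; norm_num
  exact mul_self_eq_zero.mp h22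

/-- the context of a field with four elements -/
def ctxOf {F : Type*} [Field F] [Fintype F] (hF : Fintype.card F = 4) (ω : F)
    (hω : ω ^ 2 + ω + 1 = 0) : Ctx F :=
  ⟨ω, two_eq_zero_of_card hF, hω, facts_all⟩

/-- the main theorem -/
theorem threeJ3_main {F : Type*} [Field F] [Fintype F] (hF : Fintype.card F = 4) (ω : F)
    (hω : ω ^ 2 + ω + 1 = 0) :
    Nat.card (Subgroup.center (threeJ3 F ω)) = 3 ∧ Nat.card (threeJ3 F ω) = 150698880 ∧
      Nat.card (J3 F ω) = 50232960 ∧ IsSimpleGroup (J3 F ω) :=
  (ctxOf hF ω hω).main (threeJ3 F ω) (ctxOf hF ω hω).threeJ3_eq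

end Cfsg.Agent.Lib.Helper95.J3
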