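import Mathlib
import Cfsg.Prelude.Def_Transfer
import Cfsg.Agent.Lib.Helper7.IsoTransport
import Cfsg.Agent.Lib.Helper89.A5Sub

set_option autoImplicit false

/-! Abstract group theory for the centraliser of an involution of shape `2^{1+4}:A₅` in a central
quotient. -/

namespace Cfsg.Agent.Lib.Helper95.J3

/-- no elementary abelian subgroup of order 8 -/
def NoE8 (Q : Type*) [Group Q] : Prop :=
  ∀ E : Subgroup Q, Cfsg.IsElementaryAbelian 2 E → Nat.card E ≤ 2 ^ 2

theorem NoE8.of_equiv {Q Q' : Type*} [Group Q] [Group Q'] (e : Q ≃* Q') (h : NoE8 Q) :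
    NoE8 Q' := by
  intro E hE
  have h1 := h (E.map (e.symm : Q' →* Q)) ?_
  · rwa [← Nat.card_congr (e.symm.subgroupMap E).toEquiv] at h1
  · refine ⟨⟨⟨?_⟩⟩, ?_⟩
    · rintro ⟨a, x, hx, rfl⟩ ⟨b, y, hy, rfl⟩
      apply Subtype.ext
      have := hE.1.is_comm.comm (⟨x, hx⟩ : E) ⟨y, hy⟩
      have h2 : x * y = y * x := congrArg Subtype.val this
      show e.symm x * e.symm y = e.symm y * e.symm x
      rw [← map_mul, ← map_mul, h2]
    · rintro a ⟨x, hx, rfl⟩
      rw [← map_pow, hE.2 x hx, map_one]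

/-- commuting involutions come in fours at most -/
theorem noE8_of_triple {Q : Type*} [Group Q]
    (h : ∀ a b c : Q, a ^ 2 = 1 → b ^ 2 = 1 → c ^ 2 = 1 → a * b = b * a → a * c = c * a →
      b * c = c * b → a ≠ 1 → b ≠ 1 → a ≠ b → (c = 1 ∨ c = a ∨ c = b ∨ c = a * b)) : NoE8 Q := by
  classical
  intro E hE
  have hcomm : ∀ x ∈ E, ∀ y ∈ E, x * y = y * x := by
    intro x hx y hy
    exact congrArg Subtype.val (hE.1.is_comm.comm (⟨x, hx⟩ : E) ⟨y, hy⟩)
  have hbound : ∀ s : Finset Q, (E : Set Q) ⊆ (s : Set Q) → Nat.card E ≤ s.card := by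
    intro s hs
    have h1 : Nat.card (E : Set Q) ≤ Nat.card (s : Set Q) := Nat.card_mono s.finite_toSet hs
    have h2 : Nat.card (s : Set Q) = s.card := by
      rw [Nat.card_eq_fintype_card]
      exact Fintype.card_coe s
    calc Nat.card E = Nat.card (E : Set Q) := rfl
      _ ≤ Nat.card (s : Set Q) := h1
      _ = s.card := h2
  by_cases ha : ∃ a ∈ E, a ≠ 1
  · obtain ⟨a, haE, ha1⟩ := ha
    by_cases hb : ∃ b ∈ E, b ≠ 1 ∧ b ≠ a
    · obtain ⟨b, hbE, hb1, hba⟩ := hb
      have := hbound {1, a, b, a * b} (by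
        intro c hc
        have := h a b c (hE.2 a haE) (hE.2 b hbE) (hE.2 c hc) (hcomm a haE b hbE)
          (hcomm a haE c hc) (hcomm b hbE c hc) ha1 hb1 (Ne.symm hba)
        simp only [Finset.coe_insert, Finset.coe_singleton, Set.mem_insert_iff,
          Set.mem_singleton_iff]
        exact this)
      exact le_trans this Finset.card_le_four
    · push Not at hb
      have := hbound {1, a} (by
        intro c hc
        simp only [Finset.coe_insert, Finset.coe_singleton, Set.mem_insert_iff,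
          Set.mem_singleton_iff]
        by_cases hc1 : c = 1
        · exact Or.inl hc1
        · exact Or.inr (hb c hc hc1))
      exact le_trans this (le_trans Finset.card_le_two (by norm_num))
  · push Not at ha
    have := hbound {1} (by
      intro c hc
      simp only [Finset.coe_singleton, Set.mem_singleton_iff]
      exact ha c hc)
    exact le_trans this (by simp)

/-- the shape `2^{1+4}_-:A₅` -/
def Shape (C : Type*) [Group C] : Prop :=
  ∃ (Q : Subgroup C) (_ : Q.Normal), Cfsg.IsExtraspecial 2 Q ∧ Nat.card Q = 32 ∧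
    (∀ E : Subgroup Q, Cfsg.IsElementaryAbelian 2 E → Nat.card E ≤ 2 ^ 2) ∧
    (∃ H : Subgroup C, Q.IsComplement' H) ∧ Nonempty (C ⧸ Q ≃* ↥(alternatingGroup (Fin 5)))

theorem Shape.of_equiv {C C' : Type*} [Group C] [Group C'] (e : C ≃* C') (h : Shape C) :
    Shape C' := by
  obtain ⟨Q, hQ, hext, hcard, hE, ⟨H, hH⟩, ⟨f⟩⟩ := h
  have hQ' : (Q.map (e : C →* C')).Normal := hQ.map (e : C →* C') e.surjective
  refine ⟨Q.map (e : C →* C'), hQ', ?_, ?_, ?_, ?_, ?_⟩
  · exact Cfsg.Agent.Lib.Helper7.IsoT.isExtraspecial_of_equiv 2 (e.subgroupMap Q) hext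
  · rw [← Nat.card_congr (e.subgroupMap Q).toEquiv, hcard]
  · exact NoE8.of_equiv (e.subgroupMap Q) hE
  · refine ⟨H.map (e : C →* C'), ?_⟩
    apply Subgroup.isComplement'_of_disjoint_and_mul_eq_univ
    · rw [Subgroup.disjoint_def]
      rintro x ⟨q, hq, rfl⟩ ⟨k, hk, hqk⟩
      have hqk' : k = q := e.injective hqk
      subst hqk'
      have := Subgroup.disjoint_def.mp hH.disjoint hq hk
      rw [this]
      exact map_one _
    · rw [Set.eq_univ_iff_forall]
      intro y
      obtain ⟨⟨q, k⟩, hqk⟩ := hH.2 (e.symm y)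
      refine ⟨e q, ⟨q, q.2, rfl⟩, e k, ⟨k, k.2, rfl⟩, ?_⟩
      have h1 : (q : C) * (k : C) = e.symm y := hqk
      show e q * e k = y
      rw [← map_mul, h1, MulEquiv.apply_symm_apply]
  · exact ⟨(QuotientGroup.congr Q (Q.map (e : C →* C')) e rfl).symm.trans f⟩

theorem card_alt5' : Nat.card (alternatingGroup (Fin 5)) = 60 := by
  rw [nat_card_alternatingGroup]
  simp [Nat.factorial]

/-- a normal extraspecial subgroup of order 32 of a group of order 1920 containing a `(3,5,2)` pair -/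
theorem shape_of_parts {C : Type*} [Group C] [Finite C] (Q : Subgroup C) (hQ : Q.Normal)
    (hext : Cfsg.IsExtraspecial 2 Q) (hcardQ : Nat.card Q = 32) (hE8 : NoE8 Q)
    (hcardC : Nat.card C = 1920) (X Y : C) (hX3 : X ^ 3 = 1) (hY5 : Y ^ 5 = 1)
    (hXY : (X * Y) ^ 2 = 1) (hX1 : X ≠ 1) : Shape C := by
  have hinj : Function.Injective (Cfsg.Agent.Lib.Helper89.a5Hom X Y hX3 hY5 hXY) :=
    Cfsg.Agent.Lib.Helper89.a5Hom_injective X Y hX3 hY5 hXY hX1
  let H : Subgroup C := (Cfsg.Agent.Lib.Helper89.a5Hom X Y hX3 hY5 hXY).range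
  let eH : alternatingGroup (Fin 5) ≃* H := MonoidHom.ofInjective hinj
  have hcardH : Nat.card H = 60 := by rw [← Nat.card_congr eH.toEquiv]; exact card_alt5'
  haveI : IsSimpleGroup (alternatingGroup (Fin 5)) := alternatingGroup.isSimpleGroup (by simp)
  haveI : IsSimpleGroup H := eH.symm.isSimpleGroup
  have hdisj : Disjoint Q H := by
    have hN : (Q.subgroupOf H).Normal := hQ.subgroupOf H
    rcases hN.eq_bot_or_eq_top with h | h
    · exact Subgroup.subgroupOf_eq_bot.mp h
    · exfalso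
      have hle : H ≤ Q := Subgroup.subgroupOf_eq_top.mp h
      have := Subgroup.card_le_of_le hle
      omega
  have hcomp : Q.IsComplement' H :=
    Subgroup.isComplement'_of_card_mul_and_disjoint (by rw [hcardQ, hcardH, hcardC]) hdisj
  refine ⟨Q, hQ, hext, hcardQ, hE8, ⟨H, hcomp⟩, ⟨?_⟩⟩
  exact (hcomp.symm.QuotientMulEquiv).trans eH.symm

section quot

variable {G : Type*} [Group G]

/-- the centraliser of the image of an involution in the quotient by a centre of exponent three -/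
theorem centralizer_quot_equiv (hZ : ∀ z ∈ Subgroup.center G, z ^ 3 = 1)
    (t : G) (ht2 : t ^ 2 = 1) (C : Subgroup G)
    (hCt : ∀ g ∈ C, g * t = t * g)
    (hcent : ∀ g : G, g * t = t * g → ∃ z ∈ Subgroup.center G, ∃ c ∈ C, g = z * c)
    (hdisj : ∀ g ∈ C, g ∈ Subgroup.center G → g = 1) :
    Nonempty (C ≃* Subgroup.centralizer
      ({(QuotientGroup.mk t : G ⧸ Subgroup.center G)} : Set (G ⧸ Subgroup.center G))) := by
  let π : G →* G ⧸ Subgroup.center G := QuotientGroup.mk' (Subgroup.center G)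
  have hmem : ∀ c : C, π (c : G) ∈ Subgroup.centralizer ({π t} : Set (G ⧸ Subgroup.center G)) := by
    intro c
    rw [Subgroup.mem_centralizer_singleton_iff, ← map_mul, ← map_mul, hCt c c.2]
  let f : C →* Subgroup.centralizer ({π t} : Set (G ⧸ Subgroup.center G)) :=
    { toFun := fun c => ⟨π (c : G), hmem c⟩
      map_one' := Subtype.ext (map_one π)
      map_mul' := fun a b => Subtype.ext (map_mul π (a : G) (b : G)) }
  have hinj : Function.Injective f := by
    rw [injective_iff_map_eq_one]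
    intro c hc
    have h1 : π (c : G) = 1 := congrArg Subtype.val hc
    have h2 : (c : G) ∈ Subgroup.center G := by
      rwa [QuotientGroup.mk'_apply, QuotientGroup.eq_one_iff] at h1
    exact Subtype.ext (hdisj c c.2 h2)
  have hsurj : Function.Surjective f := by
    rintro ⟨y, hy⟩
    obtain ⟨g, rfl⟩ := QuotientGroup.mk'_surjective (Subgroup.center G) y
    rw [Subgroup.mem_centralizer_singleton_iff] at hy
    -- `g t g⁻¹ t⁻¹` is central
    have h1 : g * t * (t * g)⁻¹ ∈ Subgroup.center G := by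
      rw [← QuotientGroup.eq_one_iff, QuotientGroup.mk_mul, QuotientGroup.mk_inv]
      have : ((g * t : G) : G ⧸ Subgroup.center G) = ((t * g : G) : G ⧸ Subgroup.center G) := hy
      rw [this, mul_inv_cancel]
    obtain ⟨z, hz⟩ : ∃ z, z = g * t * (t * g)⁻¹ := ⟨_, rfl⟩
    rw [← hz] at h1
    have hzc : ∀ a : G, z * a = a * z := fun a => (Subgroup.mem_center_iff.mp h1 a).symm
    have hgt : g * t = z * (t * g) := by rw [hz, inv_mul_cancel_right]
    -- `(g t g⁻¹)² = 1` gives `z² = 1`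
    have hz2 : z ^ 2 = 1 := by
      have e1 : g * t * g⁻¹ = z * t := by rw [hgt, mul_assoc, mul_assoc, mul_inv_cancel, mul_one]
      have e2 : (g * t * g⁻¹) ^ 2 = 1 := by
        rw [pow_two]
        calc g * t * g⁻¹ * (g * t * g⁻¹) = g * (t * t) * g⁻¹ := by group
          _ = 1 := by rw [← pow_two, ht2, mul_one, mul_inv_cancel]
      rw [e1, pow_two] at e2
      have e3 : z * t * (z * t) = z ^ 2 * t ^ 2 := by
        rw [pow_two, pow_two]
        calc z * t * (z * t) = z * (t * z) * t := by group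
          _ = z * (z * t) * t := by rw [hzc t]
          _ = z * z * (t * t) := by group
      rwa [e3, ht2, mul_one] at e2
    have hz1 : z = 1 := by
      have h3 := hZ z h1
      calc z = z ^ 3 * (z ^ 2)⁻¹ := by group
        _ = 1 := by rw [h3, hz2, inv_one, mul_one]
    rw [hz1, one_mul] at hgt
    obtain ⟨z', hz', c, hc, rfl⟩ := hcent g hgt
    refine ⟨⟨c, hc⟩, Subtype.ext ?_⟩
    show π (c : G) = ((z' * c : G) : G ⧸ Subgroup.center G)
    rw [QuotientGroup.mk_mul, (QuotientGroup.eq_one_iff z').mpr hz', one_mul]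
    rfl
  exact ⟨MulEquiv.ofBijective f ⟨hinj, hsurj⟩⟩

/-- involutions of the quotient by a centre of exponent three lift to involutions -/
theorem isConj_quot (hZ : ∀ z ∈ Subgroup.center G, z ^ 3 = 1) (t : G)
    (hconj : ∀ u : G, u ^ 2 = 1 → u ≠ 1 → ∃ g : G, g * u * g⁻¹ = t)
    (x : G ⧸ Subgroup.center G) (hx : orderOf x = 2) :
    IsConj x (QuotientGroup.mk t : G ⧸ Subgroup.center G) := by
  obtain ⟨g, rfl⟩ := QuotientGroup.mk'_surjective (Subgroup.center G) x
  have hx2 : (QuotientGroup.mk' (Subgroup.center G) g) ^ 2 = 1 := by rw [← hx, pow_orderOf_eq_one]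
  have hx1 : (QuotientGroup.mk' (Subgroup.center G) g) ≠ 1 := by
    intro h
    rw [h, orderOf_one] at hx
    norm_num at hx
  have hg2 : g ^ 2 ∈ Subgroup.center G := by
    rw [← QuotientGroup.eq_one_iff]
    exact hx2
  have hg6 : (g ^ 3) ^ 2 = 1 := by
    rw [← pow_mul, show 3 * 2 = 2 * 3 by norm_num, pow_mul]
    exact hZ _ hg2
  have hg3 : QuotientGroup.mk' (Subgroup.center G) (g ^ 3) = QuotientGroup.mk' (Subgroup.center G) g := by
    rw [map_pow, pow_succ, hx2, one_mul]
  have hne : g ^ 3 ≠ 1 := by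
    intro h
    rw [h, map_one] at hg3
    exact hx1 hg3.symm
  obtain ⟨a, ha⟩ := hconj (g ^ 3) hg6 hne
  rw [isConj_iff]
  refine ⟨QuotientGroup.mk' (Subgroup.center G) a, ?_⟩
  rw [← hg3, ← map_inv, ← map_mul, ← map_mul, ha]
  rfl

end quot

/-- the main abstract statement -/
theorem shape_quot {G : Type*} [Group G] [Finite G]
    (hZ : ∀ z ∈ Subgroup.center G, z ^ 3 = 1)
    (t : G) (ht2 : t ^ 2 = 1) (ht1 : t ≠ 1)
    (C Q : Subgroup G) (hQC : Q ≤ C) (htC : t ∈ C)
    (hCt : ∀ g ∈ C, g * t = t * g)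
    (hcent : ∀ g : G, g * t = t * g → ∃ z ∈ Subgroup.center G, ∃ c ∈ C, g = z * c)
    (hdisj : ∀ g ∈ C, g ∈ Subgroup.center G → g = 1)
    (hconj : ∀ u : G, u ^ 2 = 1 → u ≠ 1 → ∃ g : G, g * u * g⁻¹ = t)
    (hcardC : Nat.card C = 1920) (hcardQ : Nat.card Q = 32)
    (hnorm : C ≤ Subgroup.normalizer (Q : Set G))
    (hext : Cfsg.IsExtraspecial 2 Q) (hE8 : NoE8 Q)
    (X Y : G) (hX : X ∈ C) (hY : Y ∈ C) (hX3 : X ^ 3 = 1) (hY5 : Y ^ 5 = 1)
    (hXY : (X * Y) ^ 2 = 1) (hX1 : X ≠ 1) :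
    (∀ x y : G ⧸ Subgroup.center G, orderOf x = 2 → orderOf y = 2 → IsConj x y) ∧
    ∃ t' : G ⧸ Subgroup.center G, orderOf t' = 2 ∧
      Shape (Subgroup.centralizer ({t'} : Set (G ⧸ Subgroup.center G))) := by
  refine ⟨?_, (QuotientGroup.mk t : G ⧸ Subgroup.center G), ?_, ?_⟩
  · intro x y hx hy
    exact (isConj_quot hZ t hconj x hx).trans (isConj_quot hZ t hconj y hy).symm
  · haveI : Fact (Nat.Prime 2) := ⟨Nat.prime_two⟩
    apply orderOf_eq_prime
    · rw [← QuotientGroup.mk_pow, ht2]; rfl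
    · intro h
      rw [QuotientGroup.eq_one_iff] at h
      exact ht1 (hdisj t htC h)
  · obtain ⟨e⟩ := centralizer_quot_equiv hZ t ht2 C hCt hcent hdisj
    refine Shape.of_equiv e ?_
    have eQ : Q.subgroupOf C ≃* Q := Subgroup.subgroupOfEquivOfLe hQC
    refine shape_of_parts (Q.subgroupOf C) ((Subgroup.normal_subgroupOf_iff_le_normalizer hQC).mpr hnorm)
      (Cfsg.Agent.Lib.Helper7.IsoT.isExtraspecial_of_equiv 2 eQ.symm hext)
      (by rw [Nat.card_congr eQ.toEquiv, hcardQ]) (NoE8.of_equiv eQ.symm hE8) hcardC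
      ⟨X, hX⟩ ⟨Y, hY⟩ (Subtype.ext hX3) (Subtype.ext hY5) (Subtype.ext hXY) ?_
    intro h
    exact hX1 (congrArg Subtype.val h)

end Cfsg.Agent.Lib.Helper95.J3
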