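import Cfsg.Agent.Lib.Helper95.J3.InvDefs
import Cfsg.Agent.Lib.Helper95.J3.InvAbs
import Cfsg.Agent.Lib.Helper29.SympTools

set_option autoImplicit false

/-! The centraliser of an involution of `3·J₃` from the checked tables. -/

namespace Cfsg.Agent.Lib.Helper95.J3

open Cfsg.Spor
open scoped MatrixGroups

/-- conjugation into a finite subgroup puts an element in the normaliser -/
theorem mem_normalizer_of_conj_mem {G : Type*} [Group G] (Q : Subgroup G) [Finite Q] (u : G)
    (h : ∀ q ∈ Q, u * q * u⁻¹ ∈ Q) : u ∈ Subgroup.normalizer (Q : Set G) := by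
  rw [Subgroup.mem_normalizer_iff]
  intro x
  refine ⟨h x, fun hx => ?_⟩
  let φ : Q → Q := fun q => ⟨u * q * u⁻¹, h q q.2⟩
  have hinj : Function.Injective φ := by
    intro a b e
    have e' : u * a * u⁻¹ = u * b * u⁻¹ := congrArg Subtype.val e
    exact Subtype.ext (mul_left_cancel (mul_right_cancel e'))
  obtain ⟨q, hq⟩ := Finite.surjective_of_injective hinj ⟨u * x * u⁻¹, hx⟩
  have e' : u * q * u⁻¹ = u * x * u⁻¹ := congrArg Subtype.val hq
  have : (q : G) = x := mul_left_cancel (mul_right_cancel e')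
  rw [← this]
  exact q.2

namespace Ctx

variable {F : Type*} [Field F] (c : Ctx F)

/-- the element `g` of the group has the matrix of the packed matrix `a` -/
def Is (g : c.U) (a : Nat) : Prop := ((g : GL F9 F) : Matrix F9 F9 F) = c.S a

variable {c}

theorem Is.mul {g h : c.U} {a b : Nat} (hg : c.Is g a) (hh : c.Is h b) : c.Is (g * h) (mul a b) := by
  unfold Is at *
  rw [c.val_mul_U, hg, hh, c.S_mul]

theorem Is.one : c.Is 1 PID := by
  unfold Is
  rw [c.S_one]; rfl

theorem Is.eq {g h : c.U} {a : Nat} (hg : c.Is g a) (hh : c.Is h a) : g = h :=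
  c.ext_U (hg.trans hh.symm)

theorem Is.inj {g : c.U} {a b : Nat} (hg : c.Is g a) (hh : c.Is g b) (ha : a < 2 ^ 162)
    (hb : b < 2 ^ 162) : a = b :=
  c.S_inj ha hb (hg.symm.trans hh)

theorem PID_lt : PID < 2 ^ 162 := by decide
theorem WI_lt : WI < 2 ^ 162 := by decide
theorem W2I_lt : W2I < 2 ^ 162 := by decide

theorem InU.is {a : Nat} (h : c.InU a) : ∃ g : c.U, c.Is g a := h.exists

theorem Is.pow {g : c.U} {a : Nat} (hg : c.Is g a) (n : ℕ) : c.Is (g ^ n) (ppow n a) := by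
  induction n with
  | zero => rw [pow_zero, ppow_zero]; exact Is.one
  | succ n ih => rw [pow_succ, ppow_succ]; exact ih.mul hg

theorem inU_tab {a i l : Nat} (e : a = mul (repOf i) (kOf l)) (hi : i < nR) (hl : l < nK) :
    c.InU a := by
  obtain ⟨u, hu, e'⟩ := c.U_of_mem (c.mem_of_tab ⟨i, hi, l, hl, e⟩)
  exact ⟨u, hu, e'⟩

section

variable [Finite F] (hi : InvFacts)
include hi

theorem gokC : c.GOk LC where
  ok := hi.okC
  gen := by
    intro g hg
    have hg' : g < 2 := hg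
    interval_cases g
    · exact inU_tab hi.misc.c1 hi.misc.c1lt.1 hi.misc.c1lt.2
    · exact inU_tab hi.misc.c2 hi.misc.c2lt.1 hi.misc.c2lt.2

theorem gokQ : c.GOk LQ where
  ok := hi.okQ
  gen := by
    intro g hg
    have hg' : g < 4 := hg
    obtain ⟨h1, h2⟩ := hi.misc.qC g hg'
    show c.InU (genQ g)
    rw [← h2]
    exact (gokC hi).inU_elt _ h1

theorem gokS : c.GOk LS where
  ok := hi.okS
  gen := by
    intro g hg
    have hg' : g < 3 := hg
    obtain ⟨h1, h2⟩ := hi.misc.sC g hg'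
    show c.InU (genS g)
    rw [← h2]
    exact (gokC hi).inU_elt _ h1

theorem inU_t : c.InU tP := by
  rw [← hi.misc.tC]
  exact (gokC hi).inU_elt _ hi.misc.mTlt

/-- the involution -/
noncomputable def tU : c.U := (inU_t (c := c) hi).is.choose

theorem tU_is : c.Is (tU (c := c) hi) tP := (inU_t (c := c) hi).is.choose_spec

theorem tP_lt : tP < 2 ^ 162 := by
  rw [← hi.misc.tC]; exact LC.elt_lt _

theorem tU_sq : (tU (c := c) hi) ^ 2 = 1 := by
  apply Is.eq (a := PID) _ Is.one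
  have := (tU_is (c := c) hi).mul (tU_is (c := c) hi)
  rwa [hi.misc.t2, ← pow_two] at this

theorem tU_ne : tU (c := c) hi ≠ 1 := by
  intro h
  have h1 := tU_is (c := c) hi
  rw [h] at h1
  exact hi.misc.tne (Is.inj h1 Is.one (tP_lt hi) PID_lt)

/-- the complement of the centre in the centraliser -/
noncomputable def Cs : Subgroup c.U := (gokC (c := c) hi).sub
/-- the normal subgroup of order 32 -/
noncomputable def Qs : Subgroup c.U := (gokQ (c := c) hi).sub
/-- the Sylow 2-subgroup -/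
noncomputable def Ss : Subgroup c.U := (gokS (c := c) hi).sub

theorem mem_Cs {g : c.U} : g ∈ Cs (c := c) hi ↔ ∃ m, m < 1920 ∧ c.Is g (LC.elt m) := Iff.rfl
theorem mem_Qs {g : c.U} : g ∈ Qs (c := c) hi ↔ ∃ m, m < 32 ∧ c.Is g (LQ.elt m) := Iff.rfl
theorem mem_Ss {g : c.U} : g ∈ Ss (c := c) hi ↔ ∃ m, m < 128 ∧ c.Is g (LS.elt m) := Iff.rfl

theorem card_Cs : Nat.card (Cs (c := c) hi) = 1920 := (gokC (c := c) hi).card_sub
theorem card_Qs : Nat.card (Qs (c := c) hi) = 32 := (gokQ (c := c) hi).card_sub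
theorem card_Ss : Nat.card (Ss (c := c) hi) = 128 := (gokS (c := c) hi).card_sub

theorem tU_mem_Cs : tU (c := c) hi ∈ Cs (c := c) hi :=
  ⟨mT, hi.misc.mTlt, by rw [hi.misc.tC]; exact tU_is hi⟩

theorem tU_mem_Qs : tU (c := c) hi ∈ Qs (c := c) hi :=
  ⟨mTQ, hi.misc.mTQlt, by rw [hi.misc.tQ]; exact tU_is hi⟩

/-- the subgroup of order 32 lies in the centraliser -/
theorem Qs_le_Cs : Qs (c := c) hi ≤ Cs (c := c) hi := by
  apply (gokQ (c := c) hi).sub_le
  intro g hg u e
  have hg' : g < 4 := hg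
  obtain ⟨h1, h2⟩ := hi.misc.qC g hg'
  exact ⟨idxQ g, h1, by rw [h2]; exact e⟩

/-- the Sylow subgroup lies in the centraliser -/
theorem Ss_le_Cs : Ss (c := c) hi ≤ Cs (c := c) hi := by
  apply (gokS (c := c) hi).sub_le
  intro g hg u e
  have hg' : g < 3 := hg
  obtain ⟨h1, h2⟩ := hi.misc.sC g hg'
  exact ⟨idxS g, h1, by rw [h2]; exact e⟩

/-- the elements of the complement commute with the involution -/
theorem Cs_comm : ∀ g ∈ Cs (c := c) hi, g * tU (c := c) hi = tU (c := c) hi * g := by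
  have hle : Cs (c := c) hi ≤ Subgroup.centralizer {tU (c := c) hi} := by
    apply (gokC (c := c) hi).sub_le
    intro g hg u e
    have hg' : g < 2 := hg
    rw [Subgroup.mem_centralizer_singleton_iff]
    have hu : c.Is u (LC.gen g) := e
    interval_cases g
    · have h1 := hu.mul (tU_is (c := c) hi)
      have h2 := (tU_is (c := c) hi).mul hu
      rw [show LC.gen 0 = c1P from rfl] at h1 h2
      rw [hi.misc.c1t] at h1
      exact h1.eq h2
    · have h1 := hu.mul (tU_is (c := c) hi)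
      have h2 := (tU_is (c := c) hi).mul hu
      rw [show LC.gen 1 = c2P from rfl] at h1 h2
      rw [hi.misc.c2t] at h1
      exact h1.eq h2
  intro g hg
  exact Subgroup.mem_centralizer_singleton_iff.mp (hle hg)

omit hi in
theorem center_cube : ∀ z ∈ Subgroup.center c.U, z ^ 3 = 1 := by
  intro z hz
  obtain ⟨b, -, rfl⟩ := c.center_le z hz
  rw [← pow_mul, mul_comm, pow_mul, c.w'_cube, one_pow]

omit hi in
theorem w'_pow_is (b : ℕ) (hb : b < 3) : c.Is (c.w' ^ b) (Wp b) := by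
  unfold Is
  rw [c.w'_pow, c.S_Wp b hb]

omit hi in
theorem Wp_lt (b : ℕ) (hb : b < 3) : Wp b < 2 ^ 162 := by
  interval_cases b
  · exact PID_lt
  · exact WI_lt
  · exact W2I_lt

/-- the complement meets the centre trivially -/
theorem Cs_disj : ∀ g ∈ Cs (c := c) hi, g ∈ Subgroup.center c.U → g = 1 := by
  rintro g ⟨m, hm, e⟩ hz
  obtain ⟨b, hb, rfl⟩ := c.center_le g hz
  have h1 : Wp b = LC.elt m := Is.inj (w'_pow_is b hb) e (Wp_lt b hb) (LC.elt_lt _)
  obtain ⟨h2, h3⟩ := chkNoW_spec (hi.noW m hm)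
  interval_cases b
  · rw [pow_zero]
  · exact absurd h1.symm h2
  · exact absurd h1.symm h3

omit hi in
theorem omega_ne_zero : c.ω ≠ 0 := by
  intro h
  have := c.omega_cube
  rw [h] at this
  norm_num at this

/-- the centraliser of the involution is the centre times the complement -/
theorem cent_le : ∀ g : c.U, g * tU (c := c) hi = tU (c := c) hi * g →
    ∃ z ∈ Subgroup.center c.U, ∃ d ∈ Cs (c := c) hi, g = z * d := by
  intro g hg
  obtain ⟨i, hi', l, hl, e⟩ := c.mem_of_U g g.2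
  have ht := tU_is (c := c) hi
  -- the involution fixes the line of `g`
  have hcomm : c.S tP * (c.S (repOf i) * c.S (kOf l)) = c.S (repOf i) * c.S (kOf l) * c.S tP := by
    have := congrArg (fun h : c.U => ((h : GL F9 F) : Matrix F9 F9 F)) hg
    simp only [c.val_mul_U] at this
    rw [show ((tU (c := c) hi : GL F9 F) : Matrix F9 F9 F) = c.S tP from ht, e] at this
    exact this.symm
  obtain ⟨a, ha, ea⟩ := c.kstab l hl
  have hline : mul tP (mul (repOf i) P0) = mul (repOf i) P0 := by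
    apply c.S_inj (mul_lt _ _) (mul_lt _ _)
    have h1 : c.S tP * (c.S (repOf i) * c.S (kOf l)) * c.S P0 =
        c.S (repOf i) * c.S (kOf l) * c.S tP * c.S P0 := by rw [hcomm]
    have h2 : c.S tP * (c.S (repOf i) * c.S (kOf l)) * c.S P0 =
        (c.ω ^ a) • (c.S tP * (c.S (repOf i) * c.S P0)) := by
      rw [mul_assoc, mul_assoc, ea, Matrix.mul_smul, Matrix.mul_smul]
    have h3 : c.S (repOf i) * c.S (kOf l) * c.S tP * c.S P0 =
        (c.ω ^ a) • (c.S (repOf i) * c.S P0) := by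
      rw [mul_assoc, mul_assoc, ← c.S_mul tP P0, hi.misc.tP0, ea, Matrix.mul_smul]
    rw [h2, h3] at h1
    have h4 := smul_right_injective (Matrix F9 F9 F) (pow_ne_zero a (omega_ne_zero (c := c))) h1
    rw [c.S_mul, c.S_mul, h4]
  have hkey : key (mul tP (mul (repOf i) P0)) = keyOf (repOf i) := by rw [hline]; rfl
  obtain ⟨m, hm, k, hk, emk⟩ := chkFixT_spec (hi.fixT i hi') hkey
  -- move the line to the base line
  obtain ⟨d, hd⟩ := ((gokC (c := c) hi).inU_elt m hm).is
  have hdC : d ∈ Cs (c := c) hi := ⟨m, hm, hd⟩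
  obtain ⟨l'', hl'', ek⟩ := c.k_closed l hl k hk
  have hdg : c.Is (d * g) (kOf l'') := by
    unfold Is
    rw [c.val_mul_U, e, hd, ← mul_assoc, ← c.S_mul, emk, ek]
  have hdgt : (d * g) * tU (c := c) hi = tU (c := c) hi * (d * g) := by
    rw [mul_assoc, hg, ← mul_assoc, Cs_comm hi d hdC, mul_assoc]
  have hck : mul (kOf l'') tP = mul tP (kOf l'') := by
    apply c.S_inj (mul_lt _ _) (mul_lt _ _)
    have h1 := hdg.mul ht
    have h2 := ht.mul hdg
    rw [hdgt] at h1
    exact h1.symm.trans h2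
  obtain ⟨b, hb, m', hm', e'⟩ := chkCK_spec (hi.ck l'' hl'') hck
  obtain ⟨d', hd'⟩ := ((gokC (c := c) hi).inU_elt m' hm').is
  have hd'C : d' ∈ Cs (c := c) hi := ⟨m', hm', hd'⟩
  have hprod : d * g = c.w' ^ b * d' := by
    apply Is.eq (a := kOf l'') hdg
    rw [e']
    exact (w'_pow_is b hb).mul hd'
  have hwc : c.w' ^ b ∈ Subgroup.center c.U := Subgroup.pow_mem _ c.w'_central _
  refine ⟨c.w' ^ b, hwc, d⁻¹ * d', mul_mem (inv_mem hdC) hd'C, ?_⟩
  have h5 : g = d⁻¹ * (c.w' ^ b * d') := by rw [← hprod, inv_mul_cancel_left]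
  rw [h5, ← mul_assoc, ← mul_assoc, (Subgroup.mem_center_iff.mp hwc d⁻¹)]

/-- every involution is conjugate to the chosen one -/
theorem invol_conj : ∀ u : c.U, u ^ 2 = 1 → u ≠ 1 → ∃ g : c.U, g * u * g⁻¹ = tU (c := c) hi := by
  intro u hu2 hu1
  haveI : Fact (Nat.Prime 2) := ⟨Nat.prime_two⟩
  -- the subgroup of order 128 is a Sylow subgroup
  have hS2 : IsPGroup 2 (Ss (c := c) hi) := IsPGroup.of_card (n := 7) (by rw [card_Ss]; norm_num)
  obtain ⟨P, hSP⟩ := hS2.exists_le_sylow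
  have hPS : (P : Subgroup c.U) = Ss (c := c) hi := by
    symm
    apply Subgroup.eq_of_le_of_card_ge hSP
    obtain ⟨k, hk⟩ := IsPGroup.iff_card.mp P.2
    have hdvd : 2 ^ k ∣ 150698880 := by
      have := Subgroup.card_subgroup_dvd_card (P : Subgroup c.U)
      rw [hk, c.card_U] at this
      exact this
    have hk7 : k ≤ 7 := by
      by_contra hcon
      have h8 : 2 ^ 8 ∣ 150698880 := dvd_trans (pow_dvd_pow 2 (by omega)) hdvd
      norm_num at h8
    rw [hk, card_Ss]
    calc 2 ^ k ≤ 2 ^ 7 := Nat.pow_le_pow_right (by norm_num) hk7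
      _ = 128 := by norm_num
  -- the involution lies in a Sylow subgroup
  have hu2' : IsPGroup 2 (Subgroup.zpowers u) := by
    apply IsPGroup.of_card (n := 1)
    rw [Nat.card_zpowers, pow_one]
    exact orderOf_eq_prime hu2 hu1
  obtain ⟨P', hP'⟩ := hu2'.exists_le_sylow
  obtain ⟨g, hg⟩ := MulAction.exists_smul_eq c.U P' P
  have hmem : g * u * g⁻¹ ∈ Ss (c := c) hi := by
    rw [← hPS, ← hg, Sylow.coe_subgroup_smul]
    have h1 : u ∈ (P' : Subgroup c.U) := hP' (Subgroup.mem_zpowers u)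
    have h2 := Subgroup.smul_mem_pointwise_smul u (MulAut.conj g) (P' : Subgroup c.U) h1
    rwa [MulAut.smul_def, MulAut.conj_apply] at h2
  obtain ⟨l, hl, el'⟩ := hmem
  have el : c.Is (g * u * g⁻¹) (LS.elt l) := el'
  have hsq : mul (LS.elt l) (LS.elt l) = PID := by
    have h1 := el.mul el
    have h2 : g * u * g⁻¹ * (g * u * g⁻¹) = 1 := by
      calc g * u * g⁻¹ * (g * u * g⁻¹) = g * (u * u) * g⁻¹ := by group
        _ = 1 := by rw [← pow_two, hu2, mul_one, mul_inv_cancel]
    rw [h2] at h1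
    exact Is.inj h1 Is.one (mul_lt _ _) PID_lt
  have hne : LS.elt l ≠ PID := by
    intro h
    rw [h] at el
    have h1 : g * u * g⁻¹ = 1 := el.eq Is.one
    apply hu1
    calc u = g⁻¹ * (g * u * g⁻¹) * g := by group
      _ = 1 := by rw [h1, mul_one, inv_mul_cancel]
  obtain ⟨j, hj, k, hk, e⟩ := chkSinv_spec (hi.sinv l hl) hsq hne
  obtain ⟨h, hh⟩ := (inU_tab (c := c) rfl hj hk).is
  have h1 := hh.mul el
  have h2 := (tU_is (c := c) hi).mul hh
  rw [e] at h1
  have h3 : h * (g * u * g⁻¹) = tU (c := c) hi * h := h1.eq h2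
  refine ⟨h * g, ?_⟩
  calc h * g * u * (h * g)⁻¹ = h * (g * u * g⁻¹) * h⁻¹ := by group
    _ = tU (c := c) hi := by rw [h3, mul_inv_cancel_right]

/-- the complement normalises the subgroup of order 32 -/
theorem Cs_normalizes : Cs (c := c) hi ≤ Subgroup.normalizer (Qs (c := c) hi : Set c.U) := by
  apply (gokC (c := c) hi).sub_le
  intro a ha u eu
  have ha' : a < 2 := ha
  haveI : Finite (Qs (c := c) hi) := inferInstance
  apply mem_normalizer_of_conj_mem
  have hle : Qs (c := c) hi ≤ (Qs (c := c) hi).comap (MulAut.conj u).toMonoidHom := by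
    apply (gokQ (c := c) hi).sub_le
    intro q hq v ev
    have hq' : q < 4 := hq
    obtain ⟨m, hm, e⟩ := chkNorm_spec hi.norm ha' hq'
    obtain ⟨w, hw⟩ := ((gokQ (c := c) hi).inU_elt m hm).is
    have hu : c.Is u (LC.gen a) := eu
    have hv : c.Is v (genQ q) := ev
    have h1 := hu.mul hv
    have h2 := hw.mul hu
    rw [e] at h1
    have h3 : u * v = w * u := h1.eq h2
    rw [Subgroup.mem_comap]
    show u * v * u⁻¹ ∈ Qs (c := c) hi
    rw [h3, mul_inv_cancel_right]
    exact ⟨m, hm, hw⟩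
  intro q hq
  exact hle hq

/-- the subgroup of order 32 is extraspecial -/
theorem Qs_extraspecial : Cfsg.IsExtraspecial 2 (Qs (c := c) hi) := by
  haveI : Fact (Nat.Prime 2) := ⟨Nat.prime_two⟩
  have hP : IsPGroup 2 (Qs (c := c) hi) := IsPGroup.of_card (n := 5) (by rw [card_Qs]; norm_num)
  obtain ⟨z, hzdef⟩ : ∃ z : Qs (c := c) hi, (z : c.U) = tU (c := c) hi :=
    ⟨⟨tU (c := c) hi, tU_mem_Qs hi⟩, rfl⟩
  have hz2 : z ^ 2 = 1 := Subtype.ext (by rw [Subgroup.coe_pow, hzdef, tU_sq hi]; rfl)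
  have hz1 : z ≠ 1 := fun h => tU_ne (c := c) hi (by rw [← hzdef, h]; rfl)
  have hz : orderOf z = 2 := orderOf_eq_prime hz2 hz1
  have hmemz : ∀ x : Qs (c := c) hi, (x : c.U) = 1 ∨ (x : c.U) = tU (c := c) hi →
      x ∈ Subgroup.zpowers z := by
    rintro x (h | h)
    · have : x = 1 := Subtype.ext h
      rw [this]; exact one_mem _
    · have : x = z := Subtype.ext (h.trans hzdef.symm)
      rw [this]; exact Subgroup.mem_zpowers z
  have ht := tU_is (c := c) hi
  apply Cfsg.Agent.Lib.Helper29.isExtraspecial_of_elem hP z hz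
  · intro g
    apply Subtype.ext
    show (z : c.U) * g = g * z
    rw [hzdef]
    exact (Cs_comm hi (g : c.U) (Qs_le_Cs hi g.2)).symm
  · rintro ⟨a, i, hi', ea'⟩ ⟨b, j, hj, eb'⟩
    have ea : c.Is a (LQ.elt i) := ea'
    have eb : c.Is b (LQ.elt j) := eb'
    apply hmemz
    show a * b * a⁻¹ * b⁻¹ = 1 ∨ a * b * a⁻¹ * b⁻¹ = tU (c := c) hi
    rcases chkComm_spec hi.comm hi' hj with h | h
    · left
      have h1 := ea.mul eb
      rw [h] at h1
      have h2 : a * b = b * a := h1.eq (eb.mul ea)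
      rw [h2]; group
    · right
      have h1 := ea.mul eb
      rw [h] at h1
      have h2 : a * b = tU (c := c) hi * (b * a) := h1.eq (ht.mul (eb.mul ea))
      rw [h2]; group
  · rintro ⟨a, i, hi', ea'⟩
    have ea : c.Is a (LQ.elt i) := ea'
    apply hmemz
    show a ^ 2 = 1 ∨ a ^ 2 = tU (c := c) hi
    rw [pow_two]
    have h1 := ea.mul ea
    rcases chkSq_spec hi.sq hi' with h | h
    · left
      rw [h] at h1
      exact h1.eq Is.one
    · right
      rw [h] at h1
      exact h1.eq ht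
  · rintro ⟨a, i, hi', ea'⟩ hcen
    have ea : c.Is a (LQ.elt i) := ea'
    apply hmemz
    show a = 1 ∨ a = tU (c := c) hi
    rcases chkCen_spec hi.cen hi' with h | h | ⟨g, hg, hne⟩
    · left
      rw [h] at ea
      exact ea.eq Is.one
    · right
      rw [h] at ea
      exact ea.eq ht
    · exfalso
      obtain ⟨v, hv⟩ := ((gokQ (c := c) hi).gen g hg).is
      have hvQ : v ∈ Qs (c := c) hi := (gokQ (c := c) hi).gen_mem hg v hv
      have h1 : a * v = v * a := congrArg Subtype.val (hcen ⟨v, hvQ⟩)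
      have h2 := ea.mul hv
      rw [h1] at h2
      exact hne (Is.inj h2 (hv.mul ea) (mul_lt _ _) (mul_lt _ _)).symm.symm
  · obtain ⟨hA, hB⟩ := hi.misc.nclt
    obtain ⟨v, hv⟩ := ((gokQ (c := c) hi).gen ncA hA).is
    obtain ⟨w, hw⟩ := ((gokQ (c := c) hi).gen ncB hB).is
    refine ⟨⟨v, (gokQ (c := c) hi).gen_mem hA v hv⟩, ⟨w, (gokQ (c := c) hi).gen_mem hB w hw⟩, ?_⟩
    intro h
    have h1 : v * w = w * v := congrArg Subtype.val h
    have h2 := hv.mul hw
    rw [h1] at h2
    exact hi.misc.nc (Is.inj h2 (hw.mul hv) (mul_lt _ _) (mul_lt _ _)).symm.symm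

/-- the subgroup of order 32 has no elementary abelian subgroup of order 8 -/
theorem Qs_noE8 : NoE8 (Qs (c := c) hi) := by
  apply noE8_of_triple
  rintro ⟨a, i, hi', ea'⟩ ⟨b, j, hj, eb'⟩ ⟨d, k, hk, ed'⟩ ha2 hb2 hd2 hab had hbd ha1 hb1 hne
  have ea : c.Is a (LQ.elt i) := ea'
  have eb : c.Is b (LQ.elt j) := eb'
  have ed : c.Is d (LQ.elt k) := ed'
  have sq : ∀ {g : c.U} {m : Nat}, c.Is g (LQ.elt m) → g ^ 2 = 1 →
      mul (LQ.elt m) (LQ.elt m) = PID := by
    intro g m eg h
    have h1 := eg.mul eg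
    rw [← pow_two, h] at h1
    exact Is.inj h1 Is.one (mul_lt _ _) PID_lt
  have cm : ∀ {g h : c.U} {m n : Nat}, c.Is g (LQ.elt m) → c.Is h (LQ.elt n) → g * h = h * g →
      mul (LQ.elt m) (LQ.elt n) = mul (LQ.elt n) (LQ.elt m) := by
    intro g h m n eg eh e
    have h1 := eg.mul eh
    rw [e] at h1
    exact Is.inj h1 (eh.mul eg) (mul_lt _ _) (mul_lt _ _)
  have ha2' : a ^ 2 = 1 := congrArg Subtype.val ha2
  have hb2' : b ^ 2 = 1 := congrArg Subtype.val hb2
  have hd2' : d ^ 2 = 1 := congrArg Subtype.val hd2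
  have hab' : a * b = b * a := congrArg Subtype.val hab
  have had' : a * d = d * a := congrArg Subtype.val had
  have hbd' : b * d = d * b := congrArg Subtype.val hbd
  have ha1' : LQ.elt i ≠ PID := by
    intro h
    rw [h] at ea
    exact ha1 (Subtype.ext (ea.eq Is.one))
  have hb1' : LQ.elt j ≠ PID := by
    intro h
    rw [h] at eb
    exact hb1 (Subtype.ext (eb.eq Is.one))
  have hne' : LQ.elt j ≠ LQ.elt i := by
    intro h
    rw [h] at eb
    exact hne (Subtype.ext (ea.eq eb))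
  rcases chkE8_spec hi.e8 hi' hj hk (sq ea ha2') (sq eb hb2') (sq ed hd2') (cm ea eb hab')
    (cm ea ed had') (cm eb ed hbd') ha1' hb1' hne' with h | h | h | h
  · left
    rw [h] at ed
    exact Subtype.ext (ed.eq Is.one)
  · right; left
    rw [h] at ed
    exact Subtype.ext (ed.eq ea)
  · right; right; left
    rw [h] at ed
    exact Subtype.ext (ed.eq eb)
  · right; right; right
    rw [h] at ed
    exact Subtype.ext (ed.eq (ea.mul eb))

/-- the main theorem for the group generated by the two elements of order 17 -/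
theorem inv_main_U :
    (∀ x y : c.U ⧸ Subgroup.center c.U, orderOf x = 2 → orderOf y = 2 → IsConj x y) ∧
    ∃ t' : c.U ⧸ Subgroup.center c.U, orderOf t' = 2 ∧
      Shape (Subgroup.centralizer ({t'} : Set (c.U ⧸ Subgroup.center c.U))) := by
  obtain ⟨X, hX⟩ := ((gokC (c := c) hi).inU_elt mX hi.misc.mXlt).is
  obtain ⟨Y, hY⟩ := ((gokC (c := c) hi).inU_elt mY hi.misc.mYlt).is
  have hXC : X ∈ Cs (c := c) hi := ⟨mX, hi.misc.mXlt, hX⟩
  have hYC : Y ∈ Cs (c := c) hi := ⟨mY, hi.misc.mYlt, hY⟩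
  rw [hi.misc.xC] at hX
  rw [hi.misc.yC] at hY
  have hX3 : X ^ 3 = 1 := by
    have := hX.pow 3
    rw [hi.misc.x3] at this
    exact this.eq Is.one
  have hY5 : Y ^ 5 = 1 := by
    have := hY.pow 5
    rw [hi.misc.y5] at this
    exact this.eq Is.one
  have hXY : (X * Y) ^ 2 = 1 := by
    have := (hX.mul hY).mul (hX.mul hY)
    rw [hi.misc.xy2, ← pow_two] at this
    exact this.eq Is.one
  have hX1 : X ≠ 1 := by
    intro h
    rw [h] at hX
    have hlt : XP < 2 ^ 162 := by rw [← hi.misc.xC]; exact LC.elt_lt _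
    exact hi.misc.xne (Is.inj hX Is.one hlt PID_lt)
  exact shape_quot (center_cube (c := c)) (tU (c := c) hi) (tU_sq hi) (tU_ne hi) (Cs (c := c) hi)
    (Qs (c := c) hi) (Qs_le_Cs hi) (tU_mem_Cs hi) (Cs_comm hi) (cent_le hi) (Cs_disj hi)
    (invol_conj hi) (card_Cs hi) (card_Qs hi) (Cs_normalizes hi) (Qs_extraspecial hi) (Qs_noE8 hi)
    X Y hXC hYC hX3 hY5 hXY hX1

end

/-- the main theorem for a subgroup equal to the group generated by the two elements of order 17 -/
theorem inv_main [Finite F] (hi : InvFacts) (H : Subgroup (GL F9 F)) (hH : H = c.U) :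
    (∀ x y : H ⧸ Subgroup.center H, orderOf x = 2 → orderOf y = 2 → IsConj x y) ∧
    ∃ t' : H ⧸ Subgroup.center H, orderOf t' = 2 ∧
      Shape (Subgroup.centralizer ({t'} : Set (H ⧸ Subgroup.center H))) := by
  subst hH
  exact inv_main_U hi

end Ctx


end Cfsg.Agent.Lib.Helper95.J3
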