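import Cfsg.Agent.Lib.Helper95.J3.CheckInvMisc
import Cfsg.Agent.Lib.Helper95.J3.CheckInvCK
import Cfsg.Agent.Lib.Helper95.J3.CheckInvFix1
import Cfsg.Agent.Lib.Helper95.J3.CheckInvFix2
import Cfsg.Agent.Lib.Helper95.J3.CheckInvFix3
import Cfsg.Agent.Lib.Helper95.J3.CheckInvFix4
import Cfsg.Agent.Lib.Helper95.J3.CoreInv
import Cfsg.Agent.Lib.Helper95.J3.CertAll

set_option autoImplicit false

/-! All the checks for the centraliser of an involution together, and the main theorem for a field
with four elements. -/

namespace Cfsg.Agent.Lib.Helper95.J3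

open Cfsg.Spor
open scoped MatrixGroups

theorem invFacts_all : InvFacts where
  okC := okC_all
  okQ := okQ_all
  okS := okS_all
  fixT := by
    intro i hi
    have hi' : i < 20520 := hi
    by_cases h1 : i < 5130
    · exact allFrom_spec 0 5130 chkFixT chkFixT_1 i (by omega) (by omega)
    · by_cases h2 : i < 10260
      · exact allFrom_spec 5130 5130 chkFixT chkFixT_2 i (by omega) (by omega)
      · by_cases h3 : i < 15390
        · exact allFrom_spec 10260 5130 chkFixT chkFixT_3 i (by omega) (by omega)
        · exact allFrom_spec 15390 5130 chkFixT chkFixT_4 i (by omega) (by omega)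
  ck := by
    intro l hl
    have hl' : l < 7344 := hl
    exact allFrom_spec 0 7344 chkCK chkCK_all l (by omega) (by omega)
  noW := fun m hm => allFrom_zero_spec chkNoW_all m hm
  norm := chkNorm_all
  comm := chkComm_all
  sq := chkSq_all
  cen := chkCen_all
  e8 := chkE8_all
  sinv := fun l hl => allFrom_zero_spec chkSinv_all l hl
  misc := invMisc_all

/-- the involutions of `J₃` and their centralisers -/
theorem j3_involution_main {F : Type*} [Field F] [Fintype F] (hF : Fintype.card F = 4) (ω : F)
    (hω : ω ^ 2 + ω + 1 = 0) :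
    (∀ x y : J3 F ω, orderOf x = 2 → orderOf y = 2 → IsConj x y) ∧
    ∃ t : J3 F ω, orderOf t = 2 ∧ Shape (Subgroup.centralizer ({t} : Set (J3 F ω))) :=
  (ctxOf hF ω hω).inv_main invFacts_all (threeJ3 F ω) (ctxOf hF ω hω).threeJ3_eq

end Cfsg.Agent.Lib.Helper95.J3
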