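import Mathlib
import Cfsg.Prelude.Def_KGroupFacts

set_option autoImplicit false

/-! Abstract group theory for the outer automorphism group of a central quotient generated by an
element of order 17 and an involution. -/

namespace Cfsg.Agent.Lib.Helper95.J3

section upper

variable {Γ : Type*} [Group Γ]

theorem conj_pow_two (n0 x : Γ) (hn0 : n0 * x * n0⁻¹ = x ^ 2) (a : ℕ) :
    n0 ^ a * x * (n0 ^ a)⁻¹ = x ^ 2 ^ a := by
  induction a with
  | zero => simp
  | succ a ih =>
    calc n0 ^ (a + 1) * x * (n0 ^ (a + 1))⁻¹ = n0 * (n0 ^ a * x * (n0 ^ a)⁻¹) * n0⁻¹ := by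
          rw [pow_succ']; group
      _ = n0 * x ^ 2 ^ a * n0⁻¹ := by rw [ih]
      _ = (n0 * x * n0⁻¹) ^ 2 ^ a := by rw [conj_pow]
      _ = x ^ 2 ^ (a + 1) := by rw [hn0, ← pow_mul, pow_succ']

theorem arith17_two_three : ∀ k : ℕ, k < 17 → k ≠ 0 →
    ∃ a : ℕ, (2 ^ a * k) % 17 = 1 ∨ (2 ^ a * k) % 17 = 3 := by
  intro k hk hk0
  interval_cases k
  · exact absurd rfl hk0
  · exact ⟨0, Or.inl (by norm_num)⟩
  · exact ⟨7, Or.inl (by norm_num)⟩
  · exact ⟨0, Or.inr (by norm_num)⟩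
  · exact ⟨6, Or.inl (by norm_num)⟩
  · exact ⟨2, Or.inr (by norm_num)⟩
  · exact ⟨7, Or.inr (by norm_num)⟩
  · exact ⟨5, Or.inr (by norm_num)⟩
  · exact ⟨5, Or.inl (by norm_num)⟩
  · exact ⟨1, Or.inl (by norm_num)⟩
  · exact ⟨1, Or.inr (by norm_num)⟩
  · exact ⟨3, Or.inr (by norm_num)⟩
  · exact ⟨6, Or.inr (by norm_num)⟩
  · exact ⟨2, Or.inl (by norm_num)⟩
  · exact ⟨4, Or.inr (by norm_num)⟩
  · exact ⟨3, Or.inl (by norm_num)⟩
  · exact ⟨4, Or.inl (by norm_num)⟩

/-- automorphisms agreeing on the two generators are equal -/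
theorem aut_ext_gen {x c : Γ} (hgen : Subgroup.closure {x, c} = ⊤) (β β' : MulAut Γ)
    (hx : β x = β' x) (hc : β c = β' c) : β = β' := by
  have h : (β : Γ →* Γ) = (β' : Γ →* Γ) := by
    apply MonoidHom.eq_of_eqOn_dense hgen
    intro y hy
    rcases hy with rfl | hy
    · exact hx
    · rw [Set.mem_singleton_iff.mp hy]; exact hc
  ext y
  exact DFunLike.congr_fun h y

theorem out_le_two [Finite Γ] (x c e0 n0 : Γ) (m : ℕ) (hx17 : x ^ 17 = 1) (hx1 : x ≠ 1)
    (hcard : Nat.card Γ = 17 * m) (hm : ¬ 17 ∣ m)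
    (hgen : Subgroup.closure {x, c} = ⊤) (hn0 : n0 * x * n0⁻¹ = x ^ 2)
    (H1 : ∀ β : MulAut Γ, β x = x →
      ∃ i : ℕ, β c = x ^ i * c * (x ^ i)⁻¹ ∨ β c = x ^ i * e0 * (x ^ i)⁻¹)
    (H3 : ∀ β : MulAut Γ, β x ≠ x ^ 3) : Nat.card (Cfsg.Out Γ) ≤ 2 := by
  classical
  haveI : Fact (Nat.Prime 17) := ⟨by norm_num⟩
  have hord : orderOf x = 17 := orderOf_eq_prime hx17 hx1
  -- the group generated by `x` is a Sylow subgroup
  have hP : IsPGroup 17 (Subgroup.zpowers x) :=
    IsPGroup.of_card (n := 1) (by rw [Nat.card_zpowers, hord, pow_one])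
  obtain ⟨P, hxP⟩ := hP.exists_le_sylow
  have hPeq : (P : Subgroup Γ) = Subgroup.zpowers x := by
    symm
    apply Subgroup.eq_of_le_of_card_ge hxP
    obtain ⟨k, hk⟩ := IsPGroup.iff_card.mp P.2
    have hdvd : 17 ^ k ∣ 17 * m := by
      have := Subgroup.card_subgroup_dvd_card (P : Subgroup Γ)
      rwa [hk, hcard] at this
    have hk1 : k ≤ 1 := by
      by_contra hcon
      have h2 : 17 ^ 2 ∣ 17 * m := dvd_trans (pow_dvd_pow 17 (by omega)) hdvd
      rw [pow_two] at h2
      exact hm (Nat.dvd_of_mul_dvd_mul_left (by norm_num) h2)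
    rw [hk, Nat.card_zpowers, hord]
    calc 17 ^ k ≤ 17 ^ 1 := Nat.pow_le_pow_right (by norm_num) hk1
      _ = 17 := by norm_num
  -- every automorphism is, modulo inner ones, one fixing `x`
  have step1 : ∀ α : MulAut Γ, ∃ g : Γ, (MulAut.conj g * α) x = x := by
    intro α
    have hy17 : (α x) ^ 17 = 1 := by rw [← map_pow, hx17, map_one]
    have hy1 : α x ≠ 1 := by
      intro h
      apply hx1
      apply α.injective
      rw [h, map_one]
    have hQ : IsPGroup 17 (Subgroup.zpowers (α x)) :=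
      IsPGroup.of_card (n := 1) (by rw [Nat.card_zpowers, orderOf_eq_prime hy17 hy1, pow_one])
    obtain ⟨Q, hyQ⟩ := hQ.exists_le_sylow
    obtain ⟨g₁, hg₁⟩ := MulAction.exists_smul_eq Γ Q P
    have hmem : g₁ * α x * g₁⁻¹ ∈ Subgroup.zpowers x := by
      rw [← hPeq, ← hg₁, Sylow.coe_subgroup_smul]
      have h1 : α x ∈ (Q : Subgroup Γ) := hyQ (Subgroup.mem_zpowers _)
      have h2 := Subgroup.smul_mem_pointwise_smul (α x) (MulAut.conj g₁) (Q : Subgroup Γ) h1
      rwa [MulAut.smul_def, MulAut.conj_apply] at h2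
    rw [mem_zpowers_iff_mem_range_orderOf, hord, Finset.mem_image] at hmem
    obtain ⟨k, hk, hxk⟩ := hmem
    rw [Finset.mem_range] at hk
    have hk0 : k ≠ 0 := by
      intro h
      rw [h, pow_zero] at hxk
      apply hy1
      calc α x = g₁⁻¹ * (g₁ * α x * g₁⁻¹) * g₁ := by group
        _ = 1 := by rw [← hxk, mul_one, inv_mul_cancel]
    obtain ⟨a, ha⟩ := arith17_two_three k hk hk0
    have hcalc : (MulAut.conj (n0 ^ a * g₁) * α) x = x ^ ((2 ^ a * k) % 17) := by
      rw [MulAut.mul_apply, MulAut.conj_apply]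
      calc n0 ^ a * g₁ * α x * (n0 ^ a * g₁)⁻¹ = n0 ^ a * (g₁ * α x * g₁⁻¹) * (n0 ^ a)⁻¹ := by group
        _ = n0 ^ a * x ^ k * (n0 ^ a)⁻¹ := by rw [← hxk]
        _ = (n0 ^ a * x * (n0 ^ a)⁻¹) ^ k := by rw [conj_pow]
        _ = x ^ (2 ^ a * k) := by rw [conj_pow_two n0 x hn0, ← pow_mul]
        _ = x ^ ((2 ^ a * k) % 17) := pow_eq_pow_mod _ hx17
    rcases ha with ha | ha
    · exact ⟨n0 ^ a * g₁, by rw [hcalc, ha, pow_one]⟩
    · exact absurd (by rw [hcalc, ha]) (H3 (MulAut.conj (n0 ^ a * g₁) * α))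
  -- the classes
  have hI : ∀ g : Γ, (QuotientGroup.mk (MulAut.conj g) : Cfsg.Out Γ) = 1 := fun g =>
    (QuotientGroup.eq_one_iff _).mpr (show MulAut.conj g ∈ Cfsg.Inn Γ from ⟨g, rfl⟩)
  have hmk : ∀ (g : Γ) (α : MulAut Γ),
      (QuotientGroup.mk (MulAut.conj g * α) : Cfsg.Out Γ) = QuotientGroup.mk α := by
    intro g α
    rw [QuotientGroup.mk_mul, hI g, one_mul]
  have hinner : ∀ β : MulAut Γ, β x = x → ∀ i : ℕ, β c = x ^ i * c * (x ^ i)⁻¹ →
      (QuotientGroup.mk β : Cfsg.Out Γ) = 1 := by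
    intro β hβx i hβc
    rw [QuotientGroup.eq_one_iff]
    refine ⟨x ^ i, ?_⟩
    apply aut_ext_gen hgen
    · rw [MulAut.conj_apply, hβx]
      calc x ^ i * x * (x ^ i)⁻¹ = x ^ i * x ^ 1 * (x ^ i)⁻¹ := by rw [pow_one]
        _ = x := by rw [← pow_add, add_comm, pow_add, mul_inv_cancel_right, pow_one]
    · rw [MulAut.conj_apply, hβc]
  by_cases hex : ∃ β₀ : MulAut Γ, β₀ x = x ∧ ∃ i : ℕ, β₀ c = x ^ i * e0 * (x ^ i)⁻¹
  · obtain ⟨β₀, hβ₀x, i₀, hβ₀c⟩ := hex
    let f : Bool → Cfsg.Out Γ := fun b => cond b (QuotientGroup.mk β₀) 1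
    have hf : Function.Surjective f := by
      intro q
      obtain ⟨α, rfl⟩ := QuotientGroup.mk_surjective q
      obtain ⟨g, hg⟩ := step1 α
      rw [← hmk g α]
      obtain ⟨i, hi | hi⟩ := H1 _ hg
      · exact ⟨false, (hinner _ hg i hi).symm⟩
      · refine ⟨true, ?_⟩
        show (QuotientGroup.mk β₀ : Cfsg.Out Γ) = _
        have hβ : MulAut.conj g * α = MulAut.conj (x ^ i) * (MulAut.conj (x ^ i₀))⁻¹ * β₀ := by
          apply aut_ext_gen hgen
          · rw [hg, MulAut.mul_apply, MulAut.mul_apply, hβ₀x, MulAut.conj_inv_apply,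
              MulAut.conj_apply]
            have e1 : (x ^ i₀)⁻¹ * x * x ^ i₀ = x := by
              calc (x ^ i₀)⁻¹ * x * x ^ i₀ = (x ^ i₀)⁻¹ * (x ^ 1 * x ^ i₀) := by
                    rw [pow_one, mul_assoc]
                _ = x := by rw [← pow_add, add_comm, pow_add, inv_mul_cancel_left, pow_one]
            rw [e1]
            calc x = x ^ i * x ^ 1 * (x ^ i)⁻¹ := by
                  rw [← pow_add, add_comm, pow_add, mul_inv_cancel_right, pow_one]
              _ = x ^ i * x * (x ^ i)⁻¹ := by rw [pow_one]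
          · rw [hi, MulAut.mul_apply, MulAut.mul_apply, hβ₀c, MulAut.conj_inv_apply,
              MulAut.conj_apply]
            group
        rw [hβ, QuotientGroup.mk_mul, QuotientGroup.mk_mul, hI (x ^ i), QuotientGroup.mk_inv,
          hI (x ^ i₀), inv_one, one_mul, one_mul]
    calc Nat.card (Cfsg.Out Γ) ≤ Nat.card Bool := Nat.card_le_card_of_surjective f hf
      _ = 2 := by simp
  · have hall : ∀ q : Cfsg.Out Γ, q = 1 := by
      intro q
      obtain ⟨α, rfl⟩ := QuotientGroup.mk_surjective q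
      obtain ⟨g, hg⟩ := step1 α
      rw [← hmk g α]
      obtain ⟨i, hi | hi⟩ := H1 _ hg
      · exact hinner _ hg i hi
      · exact absurd ⟨_, hg, i, hi⟩ hex
    haveI : Subsingleton (Cfsg.Out Γ) := ⟨fun a b => by rw [hall a, hall b]⟩
    calc Nat.card (Cfsg.Out Γ) ≤ 1 := Finite.card_le_one_iff_subsingleton.mpr inferInstance
      _ ≤ 2 := by norm_num

end upper

section words

variable {G : Type*} [Group G]

/-- the word `X^a₁ C X^a₂ C …` -/
def wordG (xs : List ℕ) (X C : G) : G := xs.foldl (fun M a => M * X ^ a * C) 1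

theorem foldl_map_word {H Fn : Type*} [Group H] [FunLike Fn G H] [MonoidHomClass Fn G H] (f : Fn)
    (xs : List ℕ) (X C M : G) :
    f (xs.foldl (fun M a => M * X ^ a * C) M) =
      xs.foldl (fun M a => M * (f X) ^ a * f C) (f M) := by
  induction xs generalizing M with
  | nil => rfl
  | cons a xs ih =>
    rw [List.foldl_cons, List.foldl_cons, ih, map_mul, map_mul, map_pow]

theorem map_wordG {H Fn : Type*} [Group H] [FunLike Fn G H] [MonoidHomClass Fn G H] (f : Fn)
    (xs : List ℕ) (X C : G) : f (wordG xs X C) = wordG xs (f X) (f C) := by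
  unfold wordG
  rw [foldl_map_word, map_one]

/-- an involution of the quotient by a centre of exponent three lifts to an involution -/
theorem exists_invol_lift (hZ : ∀ z ∈ Subgroup.center G, z ^ 3 = 1)
    (q : G ⧸ Subgroup.center G) (hq2 : q ^ 2 = 1) (hq1 : q ≠ 1) :
    ∃ u : G, u ^ 2 = 1 ∧ u ≠ 1 ∧ (QuotientGroup.mk u : G ⧸ Subgroup.center G) = q := by
  obtain ⟨g, rfl⟩ := QuotientGroup.mk_surjective q
  have hg2 : g ^ 2 ∈ Subgroup.center G := by
    rw [← QuotientGroup.eq_one_iff]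
    exact hq2
  have hg6 : (g ^ 3) ^ 2 = 1 := by
    rw [← pow_mul, show 3 * 2 = 2 * 3 by norm_num, pow_mul]
    exact hZ _ hg2
  have hg3 : (QuotientGroup.mk (g ^ 3) : G ⧸ Subgroup.center G) = QuotientGroup.mk g := by
    rw [QuotientGroup.mk_pow, pow_succ, hq2, one_mul]
  refine ⟨g ^ 3, hg6, ?_, hg3⟩
  intro h
  rw [h] at hg3
  exact hq1 hg3.symm

end words

section lower

variable {G : Type*} [Group G]

/-- an automorphism moving a central element induces a non-inner automorphism of the central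
quotient, when the group is generated by two elements of order 17 and the centre has exponent 3 -/
theorem out_ge_two [Finite G] (σ : G ≃* G) (x v z : G)
    (hgen : Subgroup.closure {x, v} = ⊤) (hx : x ^ 17 = 1) (hv : v ^ 17 = 1)
    (hZ : ∀ z ∈ Subgroup.center G, z ^ 3 = 1) (hz : z ∈ Subgroup.center G) (hσz : σ z ≠ z) :
    2 ≤ Nat.card (Cfsg.Out (G ⧸ Subgroup.center G)) := by
  have hcen : ∀ u : G, u ∈ Subgroup.center G ↔ σ u ∈ Subgroup.center G := by
    intro u
    rw [Subgroup.mem_center_iff, Subgroup.mem_center_iff]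
    constructor
    · intro h b
      obtain ⟨a, rfl⟩ := σ.surjective b
      rw [← map_mul, ← map_mul, h a]
    · intro h a
      apply σ.injective
      rw [map_mul, map_mul, h (σ a)]
  have hmap : (Subgroup.center G).map (σ : G →* G) = Subgroup.center G := by
    ext u
    constructor
    · rintro ⟨a, ha, rfl⟩
      exact (hcen a).mp ha
    · intro hu
      obtain ⟨a, rfl⟩ := σ.surjective u
      exact ⟨a, (hcen a).mpr hu, rfl⟩
  let τ : G ⧸ Subgroup.center G ≃* G ⧸ Subgroup.center G :=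
    QuotientGroup.congr (Subgroup.center G) (Subgroup.center G) σ hmap
  have hτ : ∀ u : G, τ (u : G ⧸ Subgroup.center G) = ((σ u : G) : G ⧸ Subgroup.center G) :=
    fun u => QuotientGroup.congr_mk (Subgroup.center G) (Subgroup.center G) σ hmap u
  have hnot : τ ∉ Cfsg.Inn (G ⧸ Subgroup.center G) := by
    rintro ⟨q, hq⟩
    obtain ⟨g, rfl⟩ := QuotientGroup.mk_surjective q
    have key : ∀ u : G, (g * u * g⁻¹)⁻¹ * σ u ∈ Subgroup.center G := by
      intro u
      rw [← QuotientGroup.eq_one_iff, QuotientGroup.mk_mul, QuotientGroup.mk_inv, ← hτ, ← hq,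
        MulAut.conj_apply]
      simp only [QuotientGroup.mk_mul, QuotientGroup.mk_inv]
      group
    have h17 : ∀ u : G, u ^ 17 = 1 → σ u = g * u * g⁻¹ := by
      intro u hu
      obtain ⟨ζ, hζ⟩ : ∃ ζ, ζ = (g * u * g⁻¹)⁻¹ * σ u := ⟨_, rfl⟩
      have hζc : ζ ∈ Subgroup.center G := by rw [hζ]; exact key u
      have e : σ u = g * u * g⁻¹ * ζ := by rw [hζ, mul_inv_cancel_left]
      have hcomm : Commute (g * u * g⁻¹) ζ := (Subgroup.mem_center_iff.mp hζc (g * u * g⁻¹))
      have h1 : ζ ^ 17 = 1 := by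
        have h2 : (σ u) ^ 17 = 1 := by rw [← map_pow, hu, map_one]
        rw [e, hcomm.mul_pow, conj_pow, hu, mul_one, mul_inv_cancel, one_mul] at h2
        exact h2
      have h3 := hZ ζ hζc
      have h4 : ζ = 1 := by
        calc ζ = (ζ ^ 3) ^ 6 * (ζ ^ 17)⁻¹ := by group
          _ = 1 := by rw [h3, h1, one_pow, inv_one, mul_one]
      rw [e, h4, mul_one]
    have hall : ∀ u : G, σ u = g * u * g⁻¹ := by
      intro u
      have hu : u ∈ Subgroup.closure {x, v} := by rw [hgen]; trivial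
      induction hu using Subgroup.closure_induction with
      | mem y hy =>
        rcases hy with rfl | hy
        · exact h17 _ hx
        · rw [Set.mem_singleton_iff.mp hy]; exact h17 _ hv
      | one => simp
      | mul a b _ _ iha ihb => rw [map_mul, iha, ihb]; group
      | inv a _ iha => rw [map_inv, iha]; group
    apply hσz
    rw [hall z, Subgroup.mem_center_iff.mp hz g, mul_inv_cancel_right]
  have hne : (QuotientGroup.mk τ : Cfsg.Out (G ⧸ Subgroup.center G)) ≠ 1 := by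
    rwa [Ne, QuotientGroup.eq_one_iff]
  haveI : Nontrivial (Cfsg.Out (G ⧸ Subgroup.center G)) := ⟨⟨_, _, hne⟩⟩
  exact Finite.one_lt_card_iff_nontrivial.mpr inferInstance

end lower

end Cfsg.Agent.Lib.Helper95.J3
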