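import Cfsg.Agent.Lib.Helper95.J3.SUData

set_option autoImplicit false

/-! The group `3·J₃` inside the special unitary group of dimension 9 over the field with four
elements: the two generators of order 17 are unitary of determinant one. -/

namespace Cfsg.Agent.Lib.Helper95.J3

open Cfsg.Spor
open scoped MatrixGroups
open Matrix

section
variable {F : Type*} [Field F]

/-- squaring, a ring homomorphism in characteristic two -/
def sqHom (h2 : (2 : F) = 0) : F →+* F where
  toFun x := x ^ 2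
  map_one' := one_pow 2
  map_mul' x y := mul_pow x y 2
  map_zero' := by simp
  map_add' x y := by linear_combination (x * y) * h2

theorem sqHom_apply (h2 : (2 : F) = 0) (x : F) : sqHom h2 x = x ^ 2 := rfl

theorem dec_conj (h2 : (2 : F) = 0) {ω : F} (hω : ω ^ 2 + ω + 1 = 0) (c : Bool × Bool) :
    dec ω (conjCode c) = (dec ω c) ^ 2 := by
  obtain ⟨l, h⟩ := c
  unfold dec conjCode toF
  simp only
  rw [b2f_xor h2]
  have hl : (b2f l : F) ^ 2 = b2f l := by cases l <;> simp [b2f]
  have hh : (b2f h : F) ^ 2 = b2f h := by cases h <;> simp [b2f]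
  linear_combination (-1 : F) * hl - ω ^ 2 * hh - (b2f h) * (omega_sq h2 hω) -
    (b2f l * b2f h * ω) * h2

theorem sem_ct (h2 : (2 : F) = 0) {ω : F} (hω : ω ^ 2 + ω + 1 = 0) (a a' : Nat)
    (h : ∀ z w : F9, bitsOf a' z w = conjCode (bitsOf a w z)) :
    sem ω a' = ((sem ω a).map (sqHom h2))ᵀ := by
  ext z w
  rw [Matrix.transpose_apply, Matrix.map_apply, sqHom_apply]
  show dec ω (bitsOf a' z w) = (dec ω (bitsOf a w z)) ^ 2
  rw [h, dec_conj h2 hω]

/-- a matrix `M` with `Mᵀ M^(2) = 1` preserves the hermitian form -/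
theorem herm_preserved (h2 : (2 : F) = 0) (n : ℕ) (M : Matrix (Fin n) (Fin n) F)
    (hM : Mᵀ * M.map (sqHom h2) = 1) (u v : Fin n → F) :
    Cfsg.hermForm n F 2 (M *ᵥ u) (M *ᵥ v) = Cfsg.hermForm n F 2 u v := by
  have hform : ∀ a b : Fin n → F, Cfsg.hermForm n F 2 a b = a ⬝ᵥ (sqHom h2 ∘ b) := by
    intro a b
    rfl
  rw [hform, hform]
  have h1 : (sqHom h2 ∘ (M *ᵥ v)) = M.map (sqHom h2) *ᵥ (sqHom h2 ∘ v) := by
    funext i
    exact RingHom.map_mulVec (sqHom h2) M v i
  have key : ∀ y : Fin n → F, (M *ᵥ u) ⬝ᵥ y = u ⬝ᵥ (Mᵀ *ᵥ y) := by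
    intro y
    rw [← Matrix.vecMul_transpose M u, ← Matrix.dotProduct_mulVec]
  rw [h1, key, Matrix.mulVec_mulVec, hM, Matrix.one_mulVec]

end

/-- an enumeration of the index set -/
noncomputable def e9 : F9 ≃ Fin 9 := Fintype.equivFinOfCardEq (by decide)

section
variable {F : Type*} [Field F]

/-- reindexing of matrices, as an algebra isomorphism -/
noncomputable def rA : Matrix F9 F9 F ≃ₐ[F] Matrix (Fin 9) (Fin 9) F := Matrix.reindexAlgEquiv F F e9

theorem rA_apply (M : Matrix F9 F9 F) : rA M = M.submatrix e9.symm e9.symm := rfl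

theorem rA_det (M : Matrix F9 F9 F) : (rA M).det = M.det := by
  rw [rA_apply, Matrix.det_submatrix_equiv_self]

theorem rA_unitary (h2 : (2 : F) = 0) (M : Matrix F9 F9 F) (hM : Mᵀ * M.map (sqHom h2) = 1) :
    (rA M)ᵀ * (rA M).map (sqHom h2) = 1 := by
  rw [rA_apply, Matrix.transpose_submatrix, ← Matrix.submatrix_map, Matrix.submatrix_mul_equiv, hM,
    Matrix.submatrix_one_equiv]

theorem det_eq_one_of_pow [Fintype F] (hF : Fintype.card F = 4) (M : Matrix F9 F9 F)
    (hM : M ^ 17 = 1) : M.det = 1 := by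
  have h17 : M.det ^ 17 = 1 := by rw [← Matrix.det_pow, hM, Matrix.det_one]
  have hne : M.det ≠ 0 := by
    intro h
    rw [h] at h17
    simp at h17
  have h3 : M.det ^ 3 = 1 := by
    have := FiniteField.pow_card_sub_one_eq_one M.det hne
    rwa [hF] at this
  calc M.det = M.det ^ 17 * M.det := by rw [h17, one_mul]
    _ = (M.det ^ 3) ^ 6 := by ring
    _ = 1 := by rw [h3, one_pow]

/-- a unitary matrix of determinant one as an element of the special unitary group -/
noncomputable def suOf (h2 : (2 : F) = 0) (M : Matrix F9 F9 F) (hdet : M.det = 1)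
    (hM : Mᵀ * M.map (sqHom h2) = 1) : Cfsg.SU 9 F 2 :=
  ⟨⟨rA M, by rw [rA_det, hdet]⟩, fun u v => herm_preserved h2 9 (rA M) (rA_unitary h2 M hM) u v⟩

/-- the special unitary group as a group of matrices indexed by `F9` -/
noncomputable def psi : Cfsg.SU 9 F 2 →* GL F9 F :=
  (Units.map ((rA (F := F)).symm : Matrix (Fin 9) (Fin 9) F →* Matrix F9 F9 F)).comp
    (Matrix.SpecialLinearGroup.toGL.comp (Cfsg.SU 9 F 2).subtype)

theorem psi_injective : Function.Injective (psi (F := F)) := by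
  unfold psi
  intro a b h
  have h1 := Units.map_injective (f := ((rA (F := F)).symm :
    Matrix (Fin 9) (Fin 9) F →* Matrix F9 F9 F)) (rA (F := F)).symm.injective h
  exact Subtype.ext (Matrix.SpecialLinearGroup.toGL_injective h1)

theorem psi_suOf (h2 : (2 : F) = 0) (M : Matrix F9 F9 F) (hdet : M.det = 1)
    (hM : Mᵀ * M.map (sqHom h2) = 1) (u : GL F9 F) (hu : (u : Matrix F9 F9 F) = M) :
    psi (suOf h2 M hdet hM) = u := by
  apply Units.ext
  rw [hu]
  show (rA (F := F)).symm (rA M) = M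
  exact (rA (F := F)).symm_apply_apply M

end

/-- transfer of the conclusion along an isomorphism -/
theorem transfer_iso {G G' : Type*} [Group G] [Group G'] (e : G ≃* G')
    (h : Nat.card (Subgroup.center G) = 3 ∧ Nat.card (G ⧸ Subgroup.center G) = 50232960 ∧
      IsSimpleGroup (G ⧸ Subgroup.center G)) :
    Nat.card (Subgroup.center G') = 3 ∧ Cfsg.IsJ3 (G' ⧸ Subgroup.center G') := by
  obtain ⟨h1, h2, h3⟩ := h
  have hc : (Subgroup.center G).map e.toMonoidHom = Subgroup.center G' := by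
    ext y
    constructor
    · rintro ⟨x, hx, rfl⟩
      have hx := Subgroup.mem_center_iff.mp hx
      apply Subgroup.mem_center_iff.mpr
      intro g
      obtain ⟨g0, rfl⟩ := e.surjective g
      show e g0 * e x = e x * e g0
      rw [← map_mul, ← map_mul, hx g0]
    · intro hy
      refine ⟨e.symm y, ?_, e.apply_symm_apply y⟩
      have hy := Subgroup.mem_center_iff.mp hy
      apply Subgroup.mem_center_iff.mpr
      intro g
      apply e.injective
      rw [map_mul, map_mul, e.apply_symm_apply]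
      exact hy (e g)
  let eq : G ⧸ Subgroup.center G ≃* G' ⧸ Subgroup.center G' :=
    QuotientGroup.congr (Subgroup.center G) (Subgroup.center G') e hc
  refine ⟨?_, ?_, ?_⟩
  · rw [← h1]
    exact Nat.card_congr (Subgroup.centerCongr e).symm.toEquiv
  · haveI := h3
    exact MulEquiv.isSimpleGroup eq.symm
  · rw [← h2]
    exact Nat.card_congr eq.symm.toEquiv

/-- the group `3·J₃` in the special unitary group -/
theorem exists_in_SU {F : Type*} [Field F] [Fintype F] (hF : Fintype.card F = 4) (ω : F)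
    (hω : ω ^ 2 + ω + 1 = 0) :
    ∃ H : Subgroup (Cfsg.SU 9 F 2), Nat.card (Subgroup.center H) = 3 ∧
      Cfsg.IsJ3 (H ⧸ Subgroup.center H) := by
  let c := ctxOf hF ω hω
  have h2 : (2 : F) = 0 := c.h2
  have hxu : (c.S xP)ᵀ * (c.S xP).map (sqHom h2) = 1 := by
    have h1 : ((c.S xP).map (sqHom h2))ᵀ * c.S xP = 1 := by
      have e1 : c.S xCT = ((c.S xP).map (sqHom h2))ᵀ := sem_ct h2 hω xP xCT xCT_bits
      rw [← e1, ← c.S_mul, xCT_mul, c.S_one]
    have := congrArg Matrix.transpose h1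
    rwa [Matrix.transpose_mul, Matrix.transpose_transpose, Matrix.transpose_one] at this
  have hvu : (c.S vP)ᵀ * (c.S vP).map (sqHom h2) = 1 := by
    have h1 : ((c.S vP).map (sqHom h2))ᵀ * c.S vP = 1 := by
      have e1 : c.S vCT = ((c.S vP).map (sqHom h2))ᵀ := sem_ct h2 hω vP vCT vCT_bits
      rw [← e1, ← c.S_mul, vCT_mul, c.S_one]
    have := congrArg Matrix.transpose h1
    rwa [Matrix.transpose_mul, Matrix.transpose_transpose, Matrix.transpose_one] at this
  let xs : Cfsg.SU 9 F 2 := suOf h2 (c.S xP) (det_eq_one_of_pow hF _ c.Sx_pow) hxu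
  let vs : Cfsg.SU 9 F 2 := suOf h2 (c.S vP) (det_eq_one_of_pow hF _ c.Sv_pow) hvu
  have hx : psi xs = c.Xu := psi_suOf h2 _ _ hxu c.Xu c.Xu_val
  have hv : psi vs = c.Vu := psi_suOf h2 _ _ hvu c.Vu c.Vu_val
  let H : Subgroup (Cfsg.SU 9 F 2) := Subgroup.closure {xs, vs}
  have hmap : H.map psi = c.U := by
    show (Subgroup.closure {xs, vs}).map psi = Subgroup.closure {c.Xu, c.Vu}
    rw [MonoidHom.map_closure, Set.image_pair, hx, hv]
  let e : H ≃* c.U :=
    (H.equivMapOfInjective psi psi_injective).trans (MulEquiv.subgroupCongr hmap)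
  refine ⟨H, transfer_iso e.symm ?_⟩
  obtain ⟨m1, -, m3, m4⟩ := c.main_U
  exact ⟨m1, m3, m4⟩

end Cfsg.Agent.Lib.Helper95.J3
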