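import Cfsg.Agent.Lib.Helper95.J3.CheckOutExtra
import Cfsg.Agent.Lib.Helper95.J3.CoreInv
import Cfsg.Agent.Lib.Helper95.J3.OutAbs
import Cfsg.Agent.Lib.Helper95.J3.SU

set_option autoImplicit false

/-! The outer automorphism group of `J₃` from the checked tables. -/

namespace Cfsg.Agent.Lib.Helper95.J3

open Cfsg.Spor
open scoped MatrixGroups

section
variable {F : Type*} [Field F]

theorem sem_conj (h2 : (2 : F) = 0) {ω : F} (hω : ω ^ 2 + ω + 1 = 0) (a a' : Nat)
    (h : ∀ z w : F9, bitsOf a' z w = conjCode (bitsOf a z w)) :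
    sem ω a' = (sem ω a).map (sqHom h2) := by
  ext z w
  rw [Matrix.map_apply, sqHom_apply]
  show dec ω (bitsOf a' z w) = (dec ω (bitsOf a z w)) ^ 2
  rw [h, dec_conj h2 hω]

end

namespace Ctx

variable {F : Type*} [Field F] {c : Ctx F}

/-- the group is generated by the two elements of order 17 -/
theorem closure_xv : Subgroup.closure {c.x', c.v'} = (⊤ : Subgroup c.U) := by
  have key : ∀ u (hu : u ∈ Subgroup.closure {c.Xu, c.Vu}),
      (⟨u, hu⟩ : c.U) ∈ Subgroup.closure {c.x', c.v'} := by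
    intro u hu
    induction hu using Subgroup.closure_induction with
    | mem y hy =>
      rcases hy with rfl | hy
      · exact Subgroup.subset_closure (Set.mem_insert _ _)
      · have : y = c.Vu := Set.mem_singleton_iff.mp hy
        subst this
        exact Subgroup.subset_closure (Set.mem_insert_of_mem _ rfl)
    | one => exact Subgroup.one_mem _
    | mul a b ha hb iha ihb => exact Subgroup.mul_mem _ iha ihb
    | inv a ha iha => exact Subgroup.inv_mem _ iha
  rw [eq_top_iff]
  intro g _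
  exact key g.1 g.2

/-- the quotient is generated by the images of the element of order 17 and the involution -/
theorem closure_quot : Subgroup.closure
    {(QuotientGroup.mk c.x' : c.U ⧸ Subgroup.center c.U), QuotientGroup.mk c.c'} = ⊤ := by
  rw [eq_top_iff]
  rintro q -
  obtain ⟨g, rfl⟩ := QuotientGroup.mk_surjective q
  have hx : (QuotientGroup.mk c.x' : c.U ⧸ Subgroup.center c.U) ∈ Subgroup.closure
      {(QuotientGroup.mk c.x' : c.U ⧸ Subgroup.center c.U), QuotientGroup.mk c.c'} :=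
    Subgroup.subset_closure (Set.mem_insert _ _)
  have hc : (QuotientGroup.mk c.c' : c.U ⧸ Subgroup.center c.U) ∈ Subgroup.closure
      {(QuotientGroup.mk c.x' : c.U ⧸ Subgroup.center c.U), QuotientGroup.mk c.c'} :=
    Subgroup.subset_closure (Set.mem_insert_of_mem _ rfl)
  have hg : g ∈ Subgroup.closure {c.x', c.v'} := by rw [closure_xv]; trivial
  induction hg using Subgroup.closure_induction with
  | mem y hy =>
    rcases hy with rfl | hy
    · exact hx
    · rw [Set.mem_singleton_iff.mp hy, c.v'_eq, QuotientGroup.mk_mul, QuotientGroup.mk_mul,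
        QuotientGroup.mk_inv]
      exact Subgroup.mul_mem _ (Subgroup.mul_mem _ hc hx) (Subgroup.inv_mem _ hc)
  | one => exact Subgroup.one_mem _
  | mul a b _ _ iha ihb => rw [QuotientGroup.mk_mul]; exact Subgroup.mul_mem _ iha ihb
  | inv a _ iha => rw [QuotientGroup.mk_inv]; exact Subgroup.inv_mem _ iha

theorem x'_is : c.Is c.x' xP := c.x'_val

theorem c'_is : c.Is c.c' cP := c.Cu_val

theorem scal_spec {a : Nat} (h : scal a = true) : ∃ b, b < 3 ∧ a = Wp b := by
  unfold scal at h
  simp only [Bool.or_eq_true] at h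
  rcases h with (h | h) | h
  · exact ⟨0, by norm_num, beq_sound h⟩
  · exact ⟨1, by norm_num, beq_sound h⟩
  · exact ⟨2, by norm_num, beq_sound h⟩

theorem ppow_lt (n a : Nat) : ppow n a < 2 ^ 162 := by
  cases n with
  | zero => exact PID_lt
  | succ n => rw [ppow_succ]; exact mul_lt _ _

section

variable (ho : OutFacts)
include ho

theorem xPow_is (j : ℕ) (hj : j < 17) : c.Is (c.x' ^ j) (xPow j) := by
  rw [ho.misc.xpow j hj]
  exact x'_is.pow j

theorem xPow_is' (k a : ℕ) : c.Is ((c.x' ^ k) ^ a) (xPow (Nat.mod (Nat.mul a k) 17)) := by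
  have h1 : (c.x' ^ k) ^ a = c.x' ^ ((a * k) % 17) := by
    rw [← pow_mul, mul_comm]
    exact pow_eq_pow_mod _ c.x'_pow
  rw [h1]
  exact xPow_is ho _ (Nat.mod_lt _ (by norm_num))

theorem fold_is (k : ℕ) (xs : List ℕ) (C M : c.U) (cc m : Nat) (hC : c.Is C cc) (hM : c.Is M m) :
    c.Is (xs.foldl (fun M a => M * (c.x' ^ k) ^ a * C) M)
      (xs.foldl (fun M a => mul (mul M (xPow (Nat.mod (Nat.mul a k) 17))) cc) m) := by
  induction xs generalizing M m with
  | nil => exact hM
  | cons a xs ih =>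
    rw [List.foldl_cons, List.foldl_cons]
    exact ih _ _ ((hM.mul (xPow_is' ho k a)).mul hC)

theorem word_is (k : ℕ) (xs : List ℕ) (C : c.U) (cc : Nat) (hC : c.Is C cc) :
    c.Is (wordG xs (c.x' ^ k) C) (wordP k xs cc) :=
  fold_is ho k xs C 1 cc PID hC Is.one

end

section

variable [Finite F] (ho : OutFacts)
include ho

/-- conjugation by an element of the group permutes the list of involutions -/
theorem list_conj (g : c.U) : ∀ l, l < nI →
    ∃ l', l' < nI ∧ ((g : GL F9 F) : Matrix F9 F9 F) * c.S (LI l) =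
      c.S (LI l') * ((g : GL F9 F) : Matrix F9 F9 F) := by
  have hg : g ∈ Subgroup.closure {c.x', c.v'} := by rw [closure_xv]; trivial
  have hmul : ∀ a b : c.U,
      (∀ l, l < nI → ∃ l', l' < nI ∧ ((a : GL F9 F) : Matrix F9 F9 F) * c.S (LI l) =
        c.S (LI l') * ((a : GL F9 F) : Matrix F9 F9 F)) →
      (∀ l, l < nI → ∃ l', l' < nI ∧ ((b : GL F9 F) : Matrix F9 F9 F) * c.S (LI l) =
        c.S (LI l') * ((b : GL F9 F) : Matrix F9 F9 F)) →
      ∀ l, l < nI → ∃ l', l' < nI ∧ (((a * b : c.U) : GL F9 F) : Matrix F9 F9 F) * c.S (LI l) =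
        c.S (LI l') * (((a * b : c.U) : GL F9 F) : Matrix F9 F9 F) := by
    intro a b ha hb l hl
    obtain ⟨l', hl', e'⟩ := hb l hl
    obtain ⟨l'', hl'', e''⟩ := ha l' hl'
    exact ⟨l'', hl'', by rw [c.val_mul_U, mul_assoc, e', ← mul_assoc, e'', mul_assoc]⟩
  have hone : ∀ l, l < nI → ∃ l', l' < nI ∧ (((1 : c.U) : GL F9 F) : Matrix F9 F9 F) * c.S (LI l) =
      c.S (LI l') * (((1 : c.U) : GL F9 F) : Matrix F9 F9 F) := by
    intro l hl
    refine ⟨l, hl, ?_⟩
    have : (((1 : c.U) : GL F9 F) : Matrix F9 F9 F) = 1 := rfl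
    rw [this, one_mul, mul_one]
  induction hg using Subgroup.closure_induction with
  | mem y hy =>
    intro l hl
    obtain ⟨h1, h2, h3, h4⟩ := chkI_spec (ho.cls l hl)
    rcases hy with rfl | hy
    · exact ⟨IX l, h1, by rw [c.x'_val, ← c.S_mul, h3, c.S_mul]⟩
    · rw [Set.mem_singleton_iff.mp hy]
      exact ⟨IV l, h2, by rw [c.v'_val, ← c.S_mul, h4, c.S_mul]⟩
  | one => exact hone
  | mul a b _ _ iha ihb => exact hmul a b iha ihb
  | inv a _ iha =>
    have hpow : ∀ k : ℕ, ∀ l, l < nI →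
        ∃ l', l' < nI ∧ (((a ^ k : c.U) : GL F9 F) : Matrix F9 F9 F) * c.S (LI l) =
          c.S (LI l') * (((a ^ k : c.U) : GL F9 F) : Matrix F9 F9 F) := by
      intro k
      induction k with
      | zero => rw [pow_zero]; exact hone
      | succ k ih => rw [pow_succ]; exact hmul _ _ ih iha
    have hinv : a⁻¹ = a ^ (orderOf a - 1) := by
      apply inv_eq_of_mul_eq_one_right
      rw [← pow_succ', Nat.sub_add_cancel (orderOf_pos a), pow_orderOf_eq_one]
    rw [hinv]
    exact hpow _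

/-- every involution is in the list -/
theorem invol_in_list (u : c.U) (hu2 : u ^ 2 = 1) (hu1 : u ≠ 1) :
    ∃ l, l < nI ∧ c.Is u (LI l) := by
  obtain ⟨g, hg⟩ := invol_conj ho.inv u hu2 hu1
  obtain ⟨l', hl', e⟩ := list_conj ho g⁻¹ lT ho.misc.lTlt
  refine ⟨l', hl', ?_⟩
  have hu : u = g⁻¹ * tU (c := c) ho.inv * g := by rw [← hg]; group
  unfold Is
  have ht : c.Is (tU (c := c) ho.inv) tP := tU_is ho.inv
  rw [hu, c.val_mul_U, c.val_mul_U, show (((tU (c := c) ho.inv : c.U) : GL F9 F) : Matrix F9 F9 F)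
    = c.S tP from ht, ← ho.misc.tI, e, mul_assoc, ← c.val_mul_U, inv_mul_cancel]
  exact mul_one _

end

section

variable [Finite F] (ho : OutFacts)
include ho

/-- the relations of the generating involution are inherited by its images -/
theorem test_pass (k : ℕ) (β : MulAut (c.U ⧸ Subgroup.center c.U))
    (hβx : β (QuotientGroup.mk c.x') = (QuotientGroup.mk c.x') ^ k) (u : c.U)
    (hu : (QuotientGroup.mk u : c.U ⧸ Subgroup.center c.U) = β (QuotientGroup.mk c.c'))
    (a : Nat) (hua : c.Is u a) (w : List ℕ) (n : ℕ)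
    (hw : scal (ppow n (wordP 1 w cP)) = true) : scal (ppow n (wordP k w a)) = true := by
  have h1 : c.Is (wordG w (c.x' ^ 1) c.c') (wordP 1 w cP) := word_is ho 1 w c.c' cP c'_is
  have h2 := h1.pow n
  obtain ⟨b, hb, eb⟩ := scal_spec hw
  rw [eb] at h2
  have h3 : (wordG w (c.x' ^ 1) c.c') ^ n = c.w' ^ b := h2.eq (w'_pow_is b hb)
  have h4 : (QuotientGroup.mk' (Subgroup.center c.U) (wordG w (c.x' ^ 1) c.c')) ^ n = 1 := by
    rw [← map_pow, h3, QuotientGroup.mk'_apply, QuotientGroup.eq_one_iff]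
    exact Subgroup.pow_mem _ c.w'_central _
  rw [map_wordG, pow_one] at h4
  have h5 := congrArg β h4
  rw [map_pow, map_one, map_wordG, QuotientGroup.mk'_apply, QuotientGroup.mk'_apply, hβx, ← hu] at h5
  have h6 : (QuotientGroup.mk' (Subgroup.center c.U) (wordG w (c.x' ^ k) u)) ^ n = 1 := by
    rw [map_wordG, map_pow]
    exact h5
  rw [← map_pow, QuotientGroup.mk'_apply, QuotientGroup.eq_one_iff] at h6
  obtain ⟨b', hb', e'⟩ := c.center_le _ h6
  have h7 := (word_is ho k w u a hua).pow n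
  rw [e'] at h7
  have h8 : ppow n (wordP k w a) = Wp b' :=
    Is.inj h7 (w'_pow_is b' hb') (ppow_lt _ _) (Wp_lt b' hb')
  rw [h8]
  exact scal_of_Wp b' hb'

omit [Finite F] ho in
theorem c'_sq : c.c' ^ 2 = 1 := by
  apply Is.eq (a := PID) _ Is.one
  have := (c'_is (c := c)).mul c'_is
  rwa [c.fc.misc.cc, ← pow_two] at this

omit [Finite F] in
theorem c'_ne : c.c' ≠ 1 := by
  intro h
  have h1 := c'_is (c := c)
  rw [h] at h1
  have hlt : cP < 2 ^ 162 := by decide
  exact ho.misc.cne (Is.inj h1 Is.one hlt PID_lt)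

theorem c'_not_central : c.c' ∉ Subgroup.center c.U := by
  intro h
  have h3 := center_cube (c := c) _ h
  apply c'_ne (c := c) ho
  calc c.c' = c.c' ^ 3 * (c.c' ^ 2)⁻¹ := by group
    _ = 1 := by rw [h3, c'_sq, inv_one, mul_one]

/-- automorphisms fixing the element of order 17 -/
theorem aut_fix (e0' : c.U) (he0 : c.Is e0' e0P)
    (β : MulAut (c.U ⧸ Subgroup.center c.U))
    (hβx : β (QuotientGroup.mk c.x') = QuotientGroup.mk c.x') :
    ∃ i : ℕ, β (QuotientGroup.mk c.c') = (QuotientGroup.mk c.x') ^ i * QuotientGroup.mk c.c' *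
        ((QuotientGroup.mk c.x' : c.U ⧸ Subgroup.center c.U) ^ i)⁻¹ ∨
      β (QuotientGroup.mk c.c') = (QuotientGroup.mk c.x') ^ i * QuotientGroup.mk e0' *
        ((QuotientGroup.mk c.x' : c.U ⧸ Subgroup.center c.U) ^ i)⁻¹ := by
  have hq2 : (β (QuotientGroup.mk c.c')) ^ 2 = 1 := by
    rw [← map_pow, ← QuotientGroup.mk_pow, c'_sq]
    exact map_one β
  have hq1 : β (QuotientGroup.mk c.c') ≠ 1 := by
    intro h
    have h1 : (QuotientGroup.mk c.c' : c.U ⧸ Subgroup.center c.U) = 1 := by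
      apply β.injective
      rw [h, map_one]
    rw [QuotientGroup.eq_one_iff] at h1
    exact c'_not_central ho h1
  obtain ⟨u, hu2, hu1, hu⟩ := exists_invol_lift (center_cube (c := c)) _ hq2 hq1
  obtain ⟨l, hl, hul⟩ := invol_in_list ho u hu2 hu1
  have hβx' : β (QuotientGroup.mk c.x') = (QuotientGroup.mk c.x') ^ 1 := by rw [pow_one, hβx]
  obtain ⟨i, hi, e⟩ := chkT1_spec (ho.t1 l hl)
    (test_pass ho 1 β hβx' u hu (LI l) hul [1, 4] 3 ho.misc.w1)
    (test_pass ho 1 β hβx' u hu (LI l) hul [1, 12, 15] 3 ho.misc.w2)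
  refine ⟨i, ?_⟩
  have hxi := xPow_is ho (c := c) i hi
  rcases e with e | e
  · left
    have h1 := hul.mul hxi
    rw [e] at h1
    have h2 : u * c.x' ^ i = c.x' ^ i * c.c' := h1.eq (hxi.mul c'_is)
    have h3 : u = c.x' ^ i * c.c' * (c.x' ^ i)⁻¹ := by rw [← h2, mul_inv_cancel_right]
    rw [← hu, h3]
    rfl
  · right
    have h1 := hul.mul hxi
    rw [e] at h1
    have h2 : u * c.x' ^ i = c.x' ^ i * e0' := h1.eq (hxi.mul he0)
    have h3 : u = c.x' ^ i * e0' * (c.x' ^ i)⁻¹ := by rw [← h2, mul_inv_cancel_right]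
    rw [← hu, h3]
    rfl

/-- no automorphism cubes the element of order 17 -/
theorem aut_cube (β : MulAut (c.U ⧸ Subgroup.center c.U)) :
    β (QuotientGroup.mk c.x') ≠ (QuotientGroup.mk c.x') ^ 3 := by
  intro hβx
  have hq2 : (β (QuotientGroup.mk c.c')) ^ 2 = 1 := by
    rw [← map_pow, ← QuotientGroup.mk_pow, c'_sq]
    exact map_one β
  have hq1 : β (QuotientGroup.mk c.c') ≠ 1 := by
    intro h
    have h1 : (QuotientGroup.mk c.c' : c.U ⧸ Subgroup.center c.U) = 1 := by
      apply β.injective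
      rw [h, map_one]
    rw [QuotientGroup.eq_one_iff] at h1
    exact c'_not_central ho h1
  obtain ⟨u, hu2, hu1, hu⟩ := exists_invol_lift (center_cube (c := c)) _ hq2 hq1
  obtain ⟨l, hl, hul⟩ := invol_in_list ho u hu2 hu1
  exact chkT3_spec (ho.t3 l hl)
    (test_pass ho 3 β hβx u hu (LI l) hul [1, 14, 8] 4 ho.misc.w3)
    (test_pass ho 3 β hβx u hu (LI l) hul [1, 10] 5 ho.misc.w4)

/-- the outer automorphism group has order at most two -/
theorem out_le (he : OutExtra) : Nat.card (Cfsg.Out (c.U ⧸ Subgroup.center c.U)) ≤ 2 := by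
  obtain ⟨e0', he0⟩ := (inU_tab (c := c) he.e0c he.e0clt.1 he.e0clt.2).is
  obtain ⟨n0', hn0⟩ : ∃ g : c.U, c.Is g n0P := by
    have := c.inU_k ln0 ho.misc.ln0lt
    rw [ho.misc.n0] at this
    exact this.is
  have hn0x : n0' * c.x' = c.x' ^ 2 * n0' := by
    have h1 := hn0.mul (x'_is (c := c))
    rw [ho.misc.n0x] at h1
    exact h1.eq ((x'_is.pow 2).mul hn0)
  have hcard : Nat.card (c.U ⧸ Subgroup.center c.U) = 17 * 2954880 := c.main_U.2.2.1
  apply out_le_two (QuotientGroup.mk c.x') (QuotientGroup.mk c.c') (QuotientGroup.mk e0')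
    (QuotientGroup.mk n0') 2954880
  · rw [← QuotientGroup.mk_pow, c.x'_pow]; rfl
  · intro h
    rw [QuotientGroup.eq_one_iff] at h
    exact c.x'_not_central h
  · exact hcard
  · norm_num
  · exact closure_quot
  · rw [← QuotientGroup.mk_inv, ← QuotientGroup.mk_mul, ← QuotientGroup.mk_mul, ← QuotientGroup.mk_pow,
      hn0x, mul_inv_cancel_right]
  · exact aut_fix ho e0' he0
  · exact aut_cube ho

end

section

variable (ho : OutFacts)

/-- the permutation matrix of the Frobenius map of the index field as a unit -/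
noncomputable def PiU (ho : OutFacts) : GL F9 F :=
  ⟨c.S PiP, c.S PiP, by rw [← c.S_mul, ho.misc.pi2, c.S_one], by rw [← c.S_mul, ho.misc.pi2, c.S_one]⟩

/-- the semilinear automorphism of the general linear group -/
noncomputable def sigma0 (ho : OutFacts) : GL F9 F →* GL F9 F :=
  (MulAut.conj (PiU (c := c) ho)).toMonoidHom.comp (Matrix.GeneralLinearGroup.map (sqHom c.h2))

include ho

theorem sigma0_val (g : GL F9 F) : ((sigma0 (c := c) ho g : GL F9 F) : Matrix F9 F9 F) =
    c.S PiP * ((g : Matrix F9 F9 F).map (sqHom c.h2)) * c.S PiP := rfl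

theorem sigma0_injective : Function.Injective (sigma0 (c := c) ho) := by
  intro g h e
  have e1 : Matrix.GeneralLinearGroup.map (sqHom c.h2) g =
      Matrix.GeneralLinearGroup.map (sqHom c.h2) h := by
    have := congrArg (fun y => (PiU (c := c) ho)⁻¹ * y * (PiU (c := c) ho)) e
    simp only [sigma0, MonoidHom.comp_apply, MulEquiv.coe_toMonoidHom, MulAut.conj_apply] at this
    simpa [mul_assoc] using this
  apply Units.ext
  ext i j
  have e2 := congrArg (fun y : GL F9 F => (y : Matrix F9 F9 F) i j) e1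
  simp only [Matrix.GeneralLinearGroup.map_apply] at e2
  exact (sqHom c.h2).injective e2

theorem sigma0_mem_of (a a' : Nat) (g : GL F9 F) (hg : (g : Matrix F9 F9 F) = c.S a)
    (hb : ∀ z w : F9, bitsOf a' z w = conjCode (bitsOf a z w)) (i l : Nat) (hi : i < nR) (hl : l < nK)
    (e : mul PiP (mul a' PiP) = mul (repOf i) (kOf l)) : sigma0 (c := c) ho g ∈ c.U := by
  obtain ⟨u, hu, eu⟩ := inU_tab (c := c) e hi hl
  have : sigma0 (c := c) ho g = u := by
    apply Units.ext
    rw [sigma0_val, hg, eu, c.S_mul, c.S_mul, ← mul_assoc]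
    congr 2
    exact (sem_conj c.h2 c.hω a a' hb).symm
  rw [this]
  exact hu

theorem sigma0_mem : ∀ g ∈ c.U, sigma0 (c := c) ho g ∈ c.U := by
  have hle : c.U ≤ c.U.comap (sigma0 (c := c) ho) := by
    unfold U
    rw [Subgroup.closure_le]
    rintro g (rfl | hg)
    · exact sigma0_mem_of ho xP xC _ c.Xu_val ho.misc.xCb _ _ ho.misc.sxlt.1 ho.misc.sxlt.2 ho.misc.sx
    · rw [Set.mem_singleton_iff.mp hg]
      exact sigma0_mem_of ho vP vC _ c.Vu_val ho.misc.vCb _ _ ho.misc.svlt.1 ho.misc.svlt.2 ho.misc.sv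
  exact fun g hg => hle hg

/-- the automorphism of the group -/
noncomputable def sigmaU (ho : OutFacts) : c.U →* c.U :=
  ((sigma0 (c := c) ho).comp c.U.subtype).codRestrict c.U (fun g => sigma0_mem ho g.1 g.2)

theorem sigmaU_injective : Function.Injective (sigmaU (c := c) ho) := by
  intro g h e
  have e1 : sigma0 (c := c) ho g.1 = sigma0 (c := c) ho h.1 := congrArg Subtype.val e
  exact Subtype.ext (sigma0_injective ho e1)

theorem sigmaU_w' : sigmaU (c := c) ho c.w' ≠ c.w' := by
  intro h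
  have h1 : ((sigmaU (c := c) ho c.w' : GL F9 F) : Matrix F9 F9 F) =
      ((c.w' : GL F9 F) : Matrix F9 F9 F) := by rw [h]
  have h2 : ((sigmaU (c := c) ho c.w' : GL F9 F) : Matrix F9 F9 F) =
      c.S PiP * ((c.ω • (1 : Matrix F9 F9 F)).map (sqHom c.h2)) * c.S PiP := by
    show ((sigma0 (c := c) ho (c.w' : GL F9 F) : GL F9 F) : Matrix F9 F9 F) = _
    rw [sigma0_val, c.w'_val]
  have h3 : (c.ω • (1 : Matrix F9 F9 F)).map (sqHom c.h2) = (c.ω ^ 2) • (1 : Matrix F9 F9 F) := by
    ext i j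
    rw [Matrix.map_apply, Matrix.smul_apply, Matrix.smul_apply, sqHom_apply]
    by_cases hij : i = j
    · rw [hij, Matrix.one_apply_eq, smul_eq_mul, smul_eq_mul, mul_one, mul_one]
    · rw [Matrix.one_apply_ne hij, smul_eq_mul, smul_eq_mul, mul_zero, mul_zero]
      exact zero_pow (by norm_num)
  rw [h2, h3, Matrix.mul_smul, Matrix.smul_mul, mul_one, ← c.S_mul, ho.misc.pi2, c.S_one, c.w'_val] at h1
  have h4 := congrFun (congrFun h1 0) 0
  rw [Matrix.smul_apply, Matrix.smul_apply, Matrix.one_apply_eq, smul_eq_mul, smul_eq_mul, mul_one,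
    mul_one] at h4
  have h5 : c.ω * (c.ω - 1) = 0 := by linear_combination h4
  rcases mul_eq_zero.mp h5 with h6 | h6
  · exact Cfsg.Agent.Lib.Helper95.J3.omega_ne_zero c.hω h6
  · exact omega_ne_one c.h2 c.hω (by linear_combination h6)

/-- the outer automorphism group has order at least two -/
theorem out_ge [Finite F] : 2 ≤ Nat.card (Cfsg.Out (c.U ⧸ Subgroup.center c.U)) := by
  have hbij : Function.Bijective (sigmaU (c := c) ho) :=
    ⟨sigmaU_injective ho, Finite.injective_iff_surjective.mp (sigmaU_injective ho)⟩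
  exact out_ge_two (MulEquiv.ofBijective (sigmaU (c := c) ho) hbij) c.x' c.v' c.w' closure_xv c.x'_pow
    (Subtype.ext c.Vu_pow) (center_cube (c := c)) c.w'_central (sigmaU_w' ho)

/-- the outer automorphism group has order two -/
theorem out_main_U [Finite F] (he : OutExtra) :
    Nat.card (Cfsg.Out (c.U ⧸ Subgroup.center c.U)) = 2 :=
  le_antisymm (out_le ho he) (out_ge ho)

end

/-- the outer automorphism group of the central quotient of a subgroup equal to the group generated by
the two elements of order 17 -/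
theorem out_main [Finite F] (c : Ctx F) (ho : OutFacts) (he : OutExtra) (H : Subgroup (GL F9 F))
    (hH : H = c.U) : Nat.card (Cfsg.Out (H ⧸ Subgroup.center H)) = 2 := by
  subst hH
  exact out_main_U ho he

end Ctx

end Cfsg.Agent.Lib.Helper95.J3
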