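import Cfsg.Agent.Lib.Helper95.J3.CheckOutMisc
import Cfsg.Agent.Lib.Helper95.J3.CheckOutI1
import Cfsg.Agent.Lib.Helper95.J3.CheckOutI2
import Cfsg.Agent.Lib.Helper95.J3.CheckOutI3
import Cfsg.Agent.Lib.Helper95.J3.CheckOutT11
import Cfsg.Agent.Lib.Helper95.J3.CheckOutT12
import Cfsg.Agent.Lib.Helper95.J3.CheckOutT13
import Cfsg.Agent.Lib.Helper95.J3.CheckOutT31
import Cfsg.Agent.Lib.Helper95.J3.CheckOutT32
import Cfsg.Agent.Lib.Helper95.J3.CheckOutT33
import Cfsg.Agent.Lib.Helper95.J3.CoreOut
import Cfsg.Agent.Lib.Helper95.J3.CertInv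

set_option autoImplicit false

/-! All the checks for the automorphisms together, and the order of the outer automorphism group for
a field with four elements. -/

namespace Cfsg.Agent.Lib.Helper95.J3

open Cfsg.Spor
open scoped MatrixGroups

theorem three_chunks (f : Nat → Bool) (h1 : allFrom 0 8721 f = true)
    (h2 : allFrom 8721 8721 f = true) (h3 : allFrom 17442 8721 f = true) :
    ∀ l, l < nI → f l = true := by
  intro l hl
  have hl' : l < 26163 := hl
  by_cases a : l < 8721
  · exact allFrom_spec 0 8721 f h1 l (by omega) (by omega)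
  · by_cases b : l < 17442
    · exact allFrom_spec 8721 8721 f h2 l (by omega) (by omega)
    · exact allFrom_spec 17442 8721 f h3 l (by omega) (by omega)

theorem outFacts_all : OutFacts where
  inv := invFacts_all
  cls := three_chunks chkI chkI_1 chkI_2 chkI_3
  t1 := three_chunks chkT1 chkT1_1 chkT1_2 chkT1_3
  t3 := three_chunks chkT3 chkT3_1 chkT3_2 chkT3_3
  misc := outMisc_all

/-- the outer automorphism group of `J₃` has order two -/
theorem j3_out_main {F : Type*} [Field F] [Fintype F] (hF : Fintype.card F = 4) (ω : F)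
    (hω : ω ^ 2 + ω + 1 = 0) : Nat.card (Cfsg.Out (J3 F ω)) = 2 :=
  Ctx.out_main (ctxOf hF ω hω) outFacts_all outExtra_all (threeJ3 F ω) (ctxOf hF ω hω).threeJ3_eq

end Cfsg.Agent.Lib.Helper95.J3
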