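import Cfsg.Agent.Lib.Helper95.J3.InvDefs

set_option autoImplicit false

namespace Cfsg.Agent.Lib.Helper95.J3

set_option maxRecDepth 100000 in
theorem okC_all : LC.Ok := ⟨by decide +kernel, by decide +kernel, by decide +kernel, by decide +kernel⟩

set_option maxRecDepth 100000 in
theorem okQ_all : LQ.Ok := ⟨by decide +kernel, by decide +kernel, by decide +kernel, by decide +kernel⟩

set_option maxRecDepth 100000 in
theorem okS_all : LS.Ok := ⟨by decide +kernel, by decide +kernel, by decide +kernel, by decide +kernel⟩

set_option maxRecDepth 100000 in
theorem chkNoW_all : allFrom 0 1920 chkNoW = true := by decide +kernel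

set_option maxRecDepth 100000 in
theorem chkNorm_all : chkNorm = true := by decide +kernel

set_option maxRecDepth 100000 in
theorem chkComm_all : chkComm = true := by decide +kernel

set_option maxRecDepth 100000 in
theorem chkSq_all : chkSq = true := by decide +kernel

set_option maxRecDepth 100000 in
theorem chkCen_all : chkCen = true := by decide +kernel

set_option maxRecDepth 100000 in
theorem chkE8_all : chkE8 = true := by decide +kernel

set_option maxRecDepth 100000 in
theorem chkSinv_all : allFrom 0 128 chkSinv = true := by decide +kernel

set_option maxRecDepth 100000 in
theorem invMisc_all : InvMisc where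
  t2 := by decide +kernel
  tne := by decide +kernel
  tP0 := by decide +kernel
  tC := by decide +kernel
  mTlt := by decide +kernel
  tQ := by decide +kernel
  mTQlt := by decide +kernel
  c1 := by decide +kernel
  c1lt := by decide +kernel
  c2 := by decide +kernel
  c2lt := by decide +kernel
  c1t := by decide +kernel
  c2t := by decide +kernel
  qC := by decide +kernel
  sC := by decide +kernel
  xC := by decide +kernel
  mXlt := by decide +kernel
  yC := by decide +kernel
  mYlt := by decide +kernel
  x3 := by decide +kernel
  y5 := by decide +kernel
  xy2 := by decide +kernel
  xne := by decide +kernel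
  nc := by decide +kernel
  nclt := by decide +kernel

end Cfsg.Agent.Lib.Helper95.J3
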