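import Cfsg.Agent.Lib.Helper95.J3.OutDefs

set_option autoImplicit false

namespace Cfsg.Agent.Lib.Helper95.J3

/-- the second involution is in the group -/
structure OutExtra : Prop where
  e0c : e0P = mul (repOf 13735) (kOf 5087)
  e0clt : 13735 < nR ∧ 5087 < nK

set_option maxRecDepth 100000 in
theorem outExtra_all : OutExtra where
  e0c := by decide +kernel
  e0clt := by decide +kernel

end Cfsg.Agent.Lib.Helper95.J3
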