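import Cfsg.Agent.Lib.Helper95.J3.OutDefs

set_option autoImplicit false

namespace Cfsg.Agent.Lib.Helper95.J3

set_option maxRecDepth 100000 in
theorem outMisc_all : OutMisc where
  lTlt := by decide +kernel
  tI := by decide +kernel
  xpow := by decide +kernel
  w1 := by decide +kernel
  w2 := by decide +kernel
  w3 := by decide +kernel
  w4 := by decide +kernel
  n0 := by decide +kernel
  ln0lt := by decide +kernel
  n0x := by decide +kernel
  cc := by decide +kernel
  cclt := by decide +kernel
  pi2 := by decide +kernel
  xCb := by decide +kernel
  vCb := by decide +kernel
  sx := by decide +kernel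
  sxlt := by decide +kernel
  sv := by decide +kernel
  svlt := by decide +kernel
  cne := by decide +kernel
  e0lt := by decide +kernel

end Cfsg.Agent.Lib.Helper95.J3
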