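import Cfsg.Agent.Lib.Helper95.J3.Checks

set_option autoImplicit false

/-! The facts of the certificate as propositions, and the group generated by the two elements of
order 17. -/

namespace Cfsg.Agent.Lib.Helper95.J3

open Cfsg.Spor

/-- the small checks -/
structure Misc : Prop where
  x17 : ppow 17 xP = PID
  v17 : ppow 17 vP = PID
  xword : xP = mul (mul (mul (mul (mul cP dP) cP) dP) dP) dP
  vword : vP = mul (mul cP xP) cP
  cc : mul cP cP = PID
  dd : mul dP dInvP = PID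
  dd' : mul dInvP dP = PID
  ctab : cP = tabC (1, 0)
  dtab : dP = tabD (1, 1)
  rep0 : repOf i0 = PID
  k0 : kOf l0 = PID
  kW : kOf lW = WI
  i0lt : i0 < nR
  l0lt : l0 < nK
  lWlt : lW < nK
  kap : mul vP (repOf iKap) = mul (repOf jKap) kapP
  iKaplt : iKap < nR
  jKaplt : jKap < nR
  wp0 : WP0 = mul WI P0
  w2p0 : W2P0 = mul W2I P0
  w2 : W2I = mul WI WI
  p0lt : P0 < 2 ^ 162
  l51 : ∀ a, a ∈ L51 → ∃ e < 17, ∃ b < 3, a = mul (ppow e xP) (Wp b)
  center : ∀ e < 17, ∀ b < 3,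
    mul (mul (ppow e xP) (Wp b)) vP = mul vP (mul (ppow e xP) (Wp b)) → e = 0
  genA : ∀ Z : F9, ∃ i < nR, ∃ l < nK, tabA Z = mul (repOf i) (kOf l)
  genE : ∀ Z : F9, ∃ i < nR, ∃ l < nK, tabE Z = mul (repOf i) (kOf l)
  genD : ∀ Z : F9, ∃ i < nR, ∃ l < nK, tabD Z = mul (repOf i) (kOf l)
  genB : ∀ Z : F9, Z ≠ 0 → ∃ i < nR, ∃ l < nK, tabB Z = mul (repOf i) (kOf l)
  genC : ∀ Z : F9, Z ≠ 0 → ∃ i < nR, ∃ l < nK, tabC Z = mul (repOf i) (kOf l)

/-- all the facts of the certificate -/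
structure Facts : Prop where
  sch : ∀ i, i < nR → chkSch i = true
  par : ∀ i, i < nR → chkPar i = true
  sort : ∀ i, i + 1 < nR → chkSort i = true
  fix : ∀ i, i < nR → chkFix i = true
  kk : ∀ l, l < nK → chkK l = true
  ksort : ∀ l, l + 1 < nK → chkKSort l = true
  misc : Misc

theorem sch_spec {i : Nat} (h : chkSch i = true) :
    J0 i < nR ∧ L0 i < nK ∧ J1 i < nR ∧ L1 i < nK ∧
    mul xP (repOf i) = mul (repOf (J0 i)) (kOf (L0 i)) ∧
    mul vP (repOf i) = mul (repOf (J1 i)) (kOf (L1 i)) := by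
  unfold chkSch at h
  simp only [Bool.and_eq_true] at h
  obtain ⟨⟨⟨⟨⟨h1, h2⟩, h3⟩, h4⟩, h5⟩, h6⟩ := h
  exact ⟨blt_sound h1, blt_sound h2, blt_sound h3, blt_sound h4, beq_sound h5, beq_sound h6⟩

theorem par_spec {i : Nat} (h : chkPar i = true) (hi : i ≠ i0) :
    parR i < nR ∧ rkR (parR i) < rkR i ∧ repOf i = mul (genP (sgR i)) (repOf (parR i)) := by
  unfold chkPar at h
  simp only [Bool.or_eq_true, Bool.and_eq_true] at h
  rcases h with h | ⟨⟨h1, h2⟩, h3⟩
  · exact absurd (beq_sound h) hi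
  · exact ⟨blt_sound h1, blt_sound h2, beq_sound h3⟩

theorem sort_spec {i : Nat} (h : chkSort i = true) : keyOf (repOf i) < keyOf (repOf (i + 1)) :=
  blt_sound h

theorem fix_spec {i : Nat} (h : chkFix i = true) (hJ : J0 i = i) : i = i0 := by
  unfold chkFix at h
  simp only [Bool.or_eq_true, Bool.not_eq_true'] at h
  rcases h with h | h
  · exact beq_sound h
  · exfalso
    have : Nat.beq (J0 i) i = true := by rw [hJ]; exact Nat.beq_refl i
    rw [this] at h
    exact Bool.noConfusion h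

theorem kk_spec {l : Nat} (h : chkK l = true) :
    (R0 l < nK ∧ R1 l < nK ∧ mul (kOf l) xP = kOf (R0 l) ∧ mul (kOf l) kapP = kOf (R1 l)) ∧
    (l ≠ l0 → parK l < nK ∧ rkK (parK l) < rkK l ∧ kOf l = mul (kOf (parK l)) (kapOf (sgK l))) ∧
    (mul (kOf l) P0 = P0 ∨ mul (kOf l) P0 = WP0 ∨ mul (kOf l) P0 = W2P0) ∧
    (mul (kOf l) xP = mul xP (kOf l) → kOf l ∈ L51) := by
  unfold chkK at h
  simp only [Bool.and_eq_true, Bool.or_eq_true, Bool.not_eq_true'] at h
  obtain ⟨⟨⟨⟨⟨⟨h1, h2⟩, h3⟩, h4⟩, h5⟩, h6⟩, h7⟩ := h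
  refine ⟨⟨blt_sound h1, blt_sound h2, beq_sound h3, beq_sound h4⟩, ?_, ?_, ?_⟩
  · intro hl
    rcases h5 with h5 | ⟨⟨a, b⟩, c⟩
    · exact absurd (beq_sound h5) hl
    · exact ⟨blt_sound a, blt_sound b, beq_sound c⟩
  · rcases h6 with (h6 | h6) | h6
    · exact Or.inl (beq_sound h6)
    · exact Or.inr (Or.inl (beq_sound h6))
    · exact Or.inr (Or.inr (beq_sound h6))
  · intro hc
    rcases h7 with h7 | h7
    · exfalso
      have : Nat.beq (mul (kOf l) xP) (mul xP (kOf l)) = true := by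
        rw [hc]; exact Nat.beq_refl _
      rw [this] at h7
      exact Bool.noConfusion h7
    · exact inList_sound _ _ h7

theorem ksort_spec {l : Nat} (h : chkKSort l = true) : kOf l < kOf (l + 1) := blt_sound h

theorem fld_lt (v off w : Nat) : fld v off w < 2 ^ w := Nat.mod_lt _ (Nat.pow_pos (by norm_num))

theorem repOf_lt (i : Nat) : repOf i < 2 ^ 162 := fld_lt _ _ _
theorem kOf_lt (l : Nat) : kOf l < 2 ^ 162 := fld_lt _ _ _

theorem strictMono_of_succ (f : Nat → Nat) (n : Nat) (h : ∀ i, i + 1 < n → f i < f (i + 1)) :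
    ∀ i j, i < j → j < n → f i < f j := by
  intro i j hij
  induction j with
  | zero => omega
  | succ j ih =>
    intro hj
    by_cases hij' : i = j
    · subst hij'; exact h i hj
    · exact lt_trans (ih (by omega) (by omega)) (h j hj)

theorem inj_of_succ (f : Nat → Nat) (n : Nat) (h : ∀ i, i + 1 < n → f i < f (i + 1)) :
    ∀ i j, i < n → j < n → f i = f j → i = j := by
  intro i j hi hj e
  by_contra hne
  rcases Nat.lt_or_gt_of_ne hne with hlt | hlt
  · exact absurd e (ne_of_lt (strictMono_of_succ f n h i j hlt hj))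
  · exact absurd e.symm (ne_of_lt (strictMono_of_succ f n h j i hlt hi))

end Cfsg.Agent.Lib.Helper95.J3
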