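import Cfsg.Agent.Lib.Helper95.J3.Core1

set_option autoImplicit false

/-! The group generated by the two elements of order 17 is the set of products of a representative
and an element of the stabiliser. -/

namespace Cfsg.Agent.Lib.Helper95.J3

open Cfsg.Spor
open scoped MatrixGroups

/-- a field of characteristic two with a primitive cube root of unity, and the certificate -/
structure Ctx (F : Type*) [Field F] where
  ω : F
  h2 : (2 : F) = 0
  hω : ω ^ 2 + ω + 1 = 0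
  fc : Facts

namespace Ctx

variable {F : Type*} [Field F] (c : Ctx F)

/-- the matrix of a packed matrix -/
def S (a : Nat) : Matrix F9 F9 F := sem c.ω a

theorem S_mul (a b : Nat) : c.S (mul a b) = c.S a * c.S b := sem_mul c.h2 c.hω a b

theorem S_one : c.S PID = 1 := sem_PID c.ω

theorem S_WI : c.S WI = c.ω • (1 : Matrix F9 F9 F) := sem_WI c.ω

theorem S_inj {a b : Nat} (ha : a < 2 ^ 162) (hb : b < 2 ^ 162) (e : c.S a = c.S b) : a = b :=
  sem_inj c.h2 c.hω ha hb e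

theorem S_ppow (n a : Nat) : c.S (ppow n a) = c.S a ^ n := by
  induction n with
  | zero => rw [ppow_zero, S_one, pow_zero]
  | succ n ih => rw [ppow_succ, S_mul, ih, pow_succ]

theorem Sx_pow : c.S xP ^ 17 = 1 := by rw [← S_ppow, c.fc.misc.x17, S_one]

theorem Sv_pow : c.S vP ^ 17 = 1 := by rw [← S_ppow, c.fc.misc.v17, S_one]

/-- the element of order 17 as a unit -/
noncomputable def Xu : GL F9 F := Units.ofPowEqOne (c.S xP) 17 c.Sx_pow (by norm_num)

/-- its conjugate as a unit -/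
noncomputable def Vu : GL F9 F := Units.ofPowEqOne (c.S vP) 17 c.Sv_pow (by norm_num)

theorem Xu_val : (c.Xu : Matrix F9 F9 F) = c.S xP := Units.val_ofPowEqOne _ _ _ _

theorem Vu_val : (c.Vu : Matrix F9 F9 F) = c.S vP := Units.val_ofPowEqOne _ _ _ _

theorem Xu_pow : c.Xu ^ 17 = 1 := Units.pow_ofPowEqOne _ _

theorem Vu_pow : c.Vu ^ 17 = 1 := Units.pow_ofPowEqOne _ _

/-- the group generated by the two elements of order 17 -/
noncomputable def U : Subgroup (GL F9 F) := Subgroup.closure {c.Xu, c.Vu}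

theorem Xu_mem : c.Xu ∈ c.U := Subgroup.subset_closure (Set.mem_insert _ _)

theorem Vu_mem : c.Vu ∈ c.U := Subgroup.subset_closure (Set.mem_insert_of_mem _ rfl)

/-- the matrix of `a` is in the group -/
def InU (a : Nat) : Prop := ∃ u ∈ c.U, (u : Matrix F9 F9 F) = c.S a

theorem inU_one : c.InU PID := ⟨1, one_mem _, by rw [Units.val_one, c.S_one]⟩

theorem inU_mul {a b : Nat} (ha : c.InU a) (hb : c.InU b) : c.InU (mul a b) := by
  obtain ⟨u, hu, eu⟩ := ha
  obtain ⟨v, hv, ev⟩ := hb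
  exact ⟨u * v, mul_mem hu hv, by rw [Units.val_mul, eu, ev, c.S_mul]⟩

theorem inU_x : c.InU xP := ⟨c.Xu, c.Xu_mem, c.Xu_val⟩

theorem inU_v : c.InU vP := ⟨c.Vu, c.Vu_mem, c.Vu_val⟩

theorem inU_cancel {a b : Nat} (ha : c.InU a) (hab : c.InU (mul a b)) : c.InU b := by
  obtain ⟨u, hu, eu⟩ := ha
  obtain ⟨w, hw, ew⟩ := hab
  refine ⟨u⁻¹ * w, mul_mem (inv_mem hu) hw, ?_⟩
  rw [Units.val_mul, ew, c.S_mul, ← eu, ← mul_assoc, Units.inv_mul, one_mul]

theorem inU_genP (t : Nat) : c.InU (genP t) := by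
  unfold genP
  cases Nat.beq t 0
  · exact c.inU_v
  · exact c.inU_x

theorem inU_rep : ∀ i, i < nR → c.InU (repOf i) := by
  suffices h : ∀ m i, i < nR → rkR i = m → c.InU (repOf i) from fun i hi => h _ i hi rfl
  intro m
  induction m using Nat.strong_induction_on with
  | _ m ih =>
    intro i hi hm
    by_cases h0 : i = i0
    · rw [h0, c.fc.misc.rep0]; exact c.inU_one
    · obtain ⟨h1, h2, h3⟩ := par_spec (c.fc.par i hi) h0
      rw [h3]
      exact c.inU_mul (c.inU_genP _) (ih _ (hm ▸ h2) _ h1 rfl)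

theorem inU_kap : c.InU kapP := by
  have h1 : c.InU (mul vP (repOf iKap)) := c.inU_mul c.inU_v (c.inU_rep _ c.fc.misc.iKaplt)
  rw [c.fc.misc.kap] at h1
  exact c.inU_cancel (c.inU_rep _ c.fc.misc.jKaplt) h1

theorem inU_kapOf (t : Nat) : c.InU (kapOf t) := by
  unfold kapOf
  cases Nat.beq t 0
  · exact c.inU_kap
  · exact c.inU_x

theorem inU_k : ∀ l, l < nK → c.InU (kOf l) := by
  suffices h : ∀ m l, l < nK → rkK l = m → c.InU (kOf l) from fun l hl => h _ l hl rfl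
  intro m
  induction m using Nat.strong_induction_on with
  | _ m ih =>
    intro l hl hm
    by_cases h0 : l = l0
    · rw [h0, c.fc.misc.k0]; exact c.inU_one
    · obtain ⟨h1, h2, h3⟩ := (kk_spec (c.fc.kk l hl)).2.1 h0
      rw [h3]
      exact c.inU_mul (ih _ (hm ▸ h2) _ h1 rfl) (c.inU_kapOf _)

/-- the stabiliser is closed under multiplication -/
theorem k_closed : ∀ l', l' < nK → ∀ l, l < nK →
    ∃ l'', l'' < nK ∧ c.S (kOf l) * c.S (kOf l') = c.S (kOf l'') := by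
  suffices h : ∀ m l', l' < nK → rkK l' = m → ∀ l, l < nK →
      ∃ l'', l'' < nK ∧ c.S (kOf l) * c.S (kOf l') = c.S (kOf l'') from
    fun l' hl' => h _ l' hl' rfl
  intro m
  induction m using Nat.strong_induction_on with
  | _ m ih =>
    intro l' hl' hm l hl
    by_cases h0 : l' = l0
    · exact ⟨l, hl, by rw [h0, c.fc.misc.k0, c.S_one, mul_one]⟩
    · obtain ⟨h1, h2, h3⟩ := (kk_spec (c.fc.kk l' hl')).2.1 h0
      obtain ⟨m', hm', e⟩ := ih _ (hm ▸ h2) _ h1 rfl l hl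
      obtain ⟨hR0, hR1, hx, hk⟩ := (kk_spec (c.fc.kk m' hm')).1
      rw [h3, c.S_mul, ← mul_assoc, e, ← c.S_mul]
      unfold kapOf
      cases Nat.beq (sgK l') 0
      · exact ⟨R1 m', hR1, by rw [cond_false, hk]⟩
      · exact ⟨R0 m', hR0, by rw [cond_true, hx]⟩

/-- the products of a representative and an element of the stabiliser -/
def Mem (M : Matrix F9 F9 F) : Prop :=
  ∃ i, i < nR ∧ ∃ l, l < nK ∧ M = c.S (repOf i) * c.S (kOf l)

theorem mem_one : c.Mem 1 :=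
  ⟨i0, c.fc.misc.i0lt, l0, c.fc.misc.l0lt, by
    rw [c.fc.misc.rep0, c.fc.misc.k0, c.S_one, mul_one]⟩

theorem mem_x_mul {M : Matrix F9 F9 F} (hM : c.Mem M) : c.Mem (c.S xP * M) := by
  obtain ⟨i, hi, l, hl, rfl⟩ := hM
  obtain ⟨hJ0, hL0, -, -, e0, -⟩ := sch_spec (c.fc.sch i hi)
  obtain ⟨l'', hl'', e⟩ := c.k_closed l hl (L0 i) hL0
  refine ⟨J0 i, hJ0, l'', hl'', ?_⟩
  rw [← mul_assoc, ← c.S_mul, e0, c.S_mul, mul_assoc, e]

theorem mem_v_mul {M : Matrix F9 F9 F} (hM : c.Mem M) : c.Mem (c.S vP * M) := by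
  obtain ⟨i, hi, l, hl, rfl⟩ := hM
  obtain ⟨-, -, hJ1, hL1, -, e1⟩ := sch_spec (c.fc.sch i hi)
  obtain ⟨l'', hl'', e⟩ := c.k_closed l hl (L1 i) hL1
  refine ⟨J1 i, hJ1, l'', hl'', ?_⟩
  rw [← mul_assoc, ← c.S_mul, e1, c.S_mul, mul_assoc, e]

theorem mem_xpow_mul {M : Matrix F9 F9 F} (hM : c.Mem M) (k : Nat) : c.Mem (c.S xP ^ k * M) := by
  induction k with
  | zero => rwa [pow_zero, one_mul]
  | succ k ih => rw [pow_succ', mul_assoc]; exact c.mem_x_mul ih

theorem mem_vpow_mul {M : Matrix F9 F9 F} (hM : c.Mem M) (k : Nat) : c.Mem (c.S vP ^ k * M) := by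
  induction k with
  | zero => rwa [pow_zero, one_mul]
  | succ k ih => rw [pow_succ', mul_assoc]; exact c.mem_v_mul ih

theorem Xu_inv : c.Xu⁻¹ = c.Xu ^ 16 :=
  inv_eq_of_mul_eq_one_right (by rw [← pow_succ', c.Xu_pow])

theorem Vu_inv : c.Vu⁻¹ = c.Vu ^ 16 :=
  inv_eq_of_mul_eq_one_right (by rw [← pow_succ', c.Vu_pow])

theorem mem_of_U : ∀ u, u ∈ c.U → c.Mem (u : Matrix F9 F9 F) := by
  intro u hu
  unfold U at hu
  induction hu using Subgroup.closure_induction_left with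
  | one => rw [Units.val_one]; exact c.mem_one
  | mul_left x hx y hy ih =>
    rw [Units.val_mul]
    rcases hx with rfl | hx
    · rw [c.Xu_val]; exact c.mem_x_mul ih
    · rw [Set.mem_singleton_iff.mp hx, c.Vu_val]; exact c.mem_v_mul ih
  | inv_mul_cancel x hx y hy ih =>
    rw [Units.val_mul]
    rcases hx with rfl | hx
    · rw [c.Xu_inv, Units.val_pow_eq_pow_val, c.Xu_val]; exact c.mem_xpow_mul ih 16
    · rw [Set.mem_singleton_iff.mp hx, c.Vu_inv, Units.val_pow_eq_pow_val, c.Vu_val]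
      exact c.mem_vpow_mul ih 16

theorem U_of_mem {M : Matrix F9 F9 F} (hM : c.Mem M) : ∃ u ∈ c.U, (u : Matrix F9 F9 F) = M := by
  obtain ⟨i, hi, l, hl, rfl⟩ := hM
  obtain ⟨u, hu, eu⟩ := c.inU_rep i hi
  obtain ⟨w, hw, ew⟩ := c.inU_k l hl
  exact ⟨u * w, mul_mem hu hw, by rw [Units.val_mul, eu, ew]⟩

end Ctx

end Cfsg.Agent.Lib.Helper95.J3
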