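import Cfsg.Agent.Lib.Helper95.J3.Core2

set_option autoImplicit false

/-! The products of a representative and an element of the stabiliser are pairwise distinct; the
order of the group. -/

namespace Cfsg.Agent.Lib.Helper95.J3

open Cfsg.Spor
open scoped MatrixGroups

namespace Ctx

variable {F : Type*} [Field F] (c : Ctx F)

theorem omega_cube : c.ω ^ 3 = 1 := by
  linear_combination (c.ω - 1) * c.hω

theorem S_WI_mul (a : Nat) : c.S (mul WI a) = c.ω • c.S a := by
  rw [c.S_mul, c.S_WI, Matrix.smul_mul, one_mul]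

theorem S_W2I : c.S W2I = (c.ω ^ 2) • (1 : Matrix F9 F9 F) := by
  rw [c.fc.misc.w2, c.S_WI_mul, c.S_WI, smul_smul, pow_two]

theorem S_W2I_mul (a : Nat) : c.S (mul W2I a) = (c.ω ^ 2) • c.S a := by
  rw [c.S_mul, c.S_W2I, Matrix.smul_mul, one_mul]

theorem S_Wp (e : Nat) (he : e < 3) : c.S (Wp e) = (c.ω ^ e) • (1 : Matrix F9 F9 F) := by
  interval_cases e
  · show c.S PID = _
    rw [c.S_one, pow_zero, one_smul]
  · show c.S WI = _
    rw [c.S_WI, pow_one]
  · show c.S W2I = _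
    rw [c.S_W2I]

theorem S_Wp_mul (e : Nat) (he : e < 3) (a : Nat) : c.S (mul (Wp e) a) = (c.ω ^ e) • c.S a := by
  rw [c.S_mul, c.S_Wp e he, Matrix.smul_mul, one_mul]

/-- the stabiliser fixes the base line -/
theorem kstab (l : Nat) (hl : l < nK) :
    ∃ e, e < 3 ∧ c.S (kOf l) * c.S P0 = (c.ω ^ e) • c.S P0 := by
  rcases (kk_spec (c.fc.kk l hl)).2.2.1 with h | h | h
  · exact ⟨0, by norm_num, by rw [← c.S_mul, h, pow_zero, one_smul]⟩
  · exact ⟨1, by norm_num, by rw [← c.S_mul, h, c.fc.misc.wp0, c.S_WI_mul, pow_one]⟩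
  · exact ⟨2, by norm_num, by rw [← c.S_mul, h, c.fc.misc.w2p0, c.S_W2I_mul]⟩

theorem key_perm (a b d : Nat) : min (min a b) d = min (min b d) a := by omega

/-- proportional columns have the same key -/
theorem key_eq_of_smul {B B' : Nat} (hB : B < 2 ^ 162) (hB' : B' < 2 ^ 162) (f : Nat) (hf : f < 3)
    (e : c.S B = (c.ω ^ f) • c.S B') : key B = key B' := by
  have h3 := c.omega_cube
  have hWW : mul WI (mul WI B') = mul W2I B' := by
    apply c.S_inj (mul_lt _ _) (mul_lt _ _)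
    rw [c.S_WI_mul, c.S_WI_mul, c.S_W2I_mul, smul_smul, pow_two]
  have hW2W : mul W2I (mul WI B') = B' := by
    apply c.S_inj (mul_lt _ _) hB'
    rw [c.S_W2I_mul, c.S_WI_mul, smul_smul, ← pow_succ, h3, one_smul]
  have hWW2 : mul WI (mul W2I B') = B' := by
    apply c.S_inj (mul_lt _ _) hB'
    rw [c.S_WI_mul, c.S_W2I_mul, smul_smul, ← pow_succ', h3, one_smul]
  have hW2W2 : mul W2I (mul W2I B') = mul WI B' := by
    apply c.S_inj (mul_lt _ _) (mul_lt _ _)
    rw [c.S_W2I_mul, c.S_W2I_mul, c.S_WI_mul, smul_smul]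
    congr 1
    calc c.ω ^ 2 * c.ω ^ 2 = c.ω ^ 3 * c.ω := by ring
      _ = c.ω := by rw [h3, one_mul]
  interval_cases f
  · rw [pow_zero, one_smul] at e
    rw [c.S_inj hB hB' e]
  · rw [pow_one, ← c.S_WI_mul] at e
    rw [c.S_inj hB (mul_lt _ _) e]
    unfold key
    rw [hWW, hW2W]
    exact (key_perm _ _ _).symm
  · rw [← c.S_W2I_mul] at e
    rw [c.S_inj hB (mul_lt _ _) e]
    unfold key
    rw [hWW2, hW2W2]
    exact key_perm _ _ _

theorem rep_inj_of_key (fc : Facts) {i i' : Nat} (hi : i < nR) (hi' : i' < nR)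
    (e : keyOf (repOf i) = keyOf (repOf i')) : i = i' :=
  inj_of_succ (fun i => keyOf (repOf i)) nR (fun i hi => sort_spec (fc.sort i hi)) i i' hi hi' e

theorem k_inj (fc : Facts) {l l' : Nat} (hl : l < nK) (hl' : l' < nK) (e : kOf l = kOf l') :
    l = l' :=
  inj_of_succ kOf nK (fun l hl => ksort_spec (fc.ksort l hl)) l l' hl hl' e

theorem pow_mod3 (n : Nat) : c.ω ^ n = c.ω ^ (n % 3) := pow_eq_pow_mod n c.omega_cube

/-- the products are pairwise distinct -/
theorem param_inj {i i' l l' : Nat} (hi : i < nR) (hi' : i' < nR) (hl : l < nK) (hl' : l' < nK)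
    (e : c.S (repOf i) * c.S (kOf l) = c.S (repOf i') * c.S (kOf l')) : i = i' ∧ l = l' := by
  obtain ⟨a, ha, ea⟩ := c.kstab l hl
  obtain ⟨a', ha', ea'⟩ := c.kstab l' hl'
  have e1 : (c.ω ^ a) • c.S (mul (repOf i) P0) = (c.ω ^ a') • c.S (mul (repOf i') P0) := by
    have := congrArg (· * c.S P0) e
    simp only [mul_assoc] at this
    rw [ea, ea', Matrix.mul_smul, Matrix.mul_smul, ← c.S_mul, ← c.S_mul] at this
    exact this
  have e2 : c.S (mul (repOf i) P0) = (c.ω ^ ((a' + 2 * a) % 3)) • c.S (mul (repOf i') P0) := by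
    have := congrArg (fun M => (c.ω ^ (2 * a)) • M) e1
    simp only [smul_smul, ← pow_add] at this
    rw [show 2 * a + a = 3 * a by ring, pow_mul, c.omega_cube, one_pow, one_smul,
      show 2 * a + a' = a' + 2 * a by ring, c.pow_mod3] at this
    exact this
  have hkey : keyOf (repOf i) = keyOf (repOf i') :=
    c.key_eq_of_smul (mul_lt _ _) (mul_lt _ _) _ (Nat.mod_lt _ (by norm_num)) e2
  have hii : i = i' := rep_inj_of_key c.fc hi hi' hkey
  subst hii
  refine ⟨rfl, ?_⟩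
  obtain ⟨u, -, eu⟩ := c.inU_rep i hi
  rw [← eu] at e
  have := (Units.mul_right_inj u).mp e
  exact k_inj c.fc hl hl' (c.S_inj (kOf_lt _) (kOf_lt _) this)

/-- the order of the group -/
theorem card_U [Finite F] : Nat.card c.U = nR * nK := by
  classical
  have hex : ∀ p : Fin nR × Fin nK, ∃ u ∈ c.U,
      (u : Matrix F9 F9 F) = c.S (repOf p.1) * c.S (kOf p.2) :=
    fun p => c.U_of_mem ⟨p.1, p.1.2, p.2, p.2.2, rfl⟩
  let f : Fin nR × Fin nK → c.U := fun p => ⟨(hex p).choose, (hex p).choose_spec.1⟩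
  have hf : ∀ p, ((f p : GL F9 F) : Matrix F9 F9 F) = c.S (repOf p.1) * c.S (kOf p.2) :=
    fun p => (hex p).choose_spec.2
  have hbij : Function.Bijective f := by
    constructor
    · intro p q e
      have e' : c.S (repOf p.1) * c.S (kOf p.2) = c.S (repOf q.1) * c.S (kOf q.2) := by
        rw [← hf p, ← hf q, e]
      obtain ⟨h1, h2⟩ := c.param_inj p.1.2 q.1.2 p.2.2 q.2.2 e'
      exact Prod.ext (Fin.ext h1) (Fin.ext h2)
    · intro u
      obtain ⟨i, hi, l, hl, e⟩ := c.mem_of_U u u.2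
      refine ⟨(⟨i, hi⟩, ⟨l, hl⟩), ?_⟩
      apply Subtype.ext
      apply Units.ext
      rw [hf, e]
  rw [← Nat.card_eq_of_bijective f hbij, Nat.card_prod, Nat.card_fin, Nat.card_fin]

end Ctx

end Cfsg.Agent.Lib.Helper95.J3
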