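import Cfsg.Agent.Lib.Helper95.J3.Core3

set_option autoImplicit false

/-! The group is the group of the definitions; the centraliser of the element of order 17 and the
centre. -/

namespace Cfsg.Agent.Lib.Helper95.J3

open Cfsg.Spor
open scoped MatrixGroups

namespace Ctx

variable {F : Type*} [Field F] (c : Ctx F)

/-! ### The group of the definitions -/

theorem mem_of_tab {a : Nat} (h : ∃ i < nR, ∃ l < nK, a = mul (repOf i) (kOf l)) : c.Mem (c.S a) := by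
  obtain ⟨i, hi, l, hl, e⟩ := h
  exact ⟨i, hi, l, hl, by rw [e, c.S_mul]⟩

theorem gens_mem (M : Matrix F9 F9 F) (hM : M ∈ j3Gens F c.ω) : c.Mem M := by
  unfold j3Gens at hM
  rcases hM with (((⟨Z, rfl⟩ | ⟨Z, rfl⟩) | ⟨Z, rfl⟩) | ⟨Z, hZ, rfl⟩) | ⟨Z, hZ, rfl⟩
  · rw [j3A_eq c.h2 c.hω]; exact c.mem_of_tab (c.fc.misc.genA Z)
  · rw [j3E_eq c.h2 c.hω]; exact c.mem_of_tab (c.fc.misc.genE Z)
  · rw [j3D_eq c.h2 c.hω]; exact c.mem_of_tab (c.fc.misc.genD Z)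
  · rw [j3B_eq c.ω Z hZ]; exact c.mem_of_tab (c.fc.misc.genB Z hZ)
  · rw [j3C_eq c.ω Z hZ]; exact c.mem_of_tab (c.fc.misc.genC Z hZ)

/-- the generator `C_(1,0)` as a unit -/
noncomputable def Cu : GL F9 F :=
  ⟨c.S cP, c.S cP, by rw [← c.S_mul, c.fc.misc.cc, c.S_one], by rw [← c.S_mul, c.fc.misc.cc, c.S_one]⟩

/-- the generator `D_(1,1)` as a unit -/
noncomputable def Du : GL F9 F :=
  ⟨c.S dP, c.S dInvP, by rw [← c.S_mul, c.fc.misc.dd, c.S_one],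
    by rw [← c.S_mul, c.fc.misc.dd', c.S_one]⟩

theorem Cu_val : (c.Cu : Matrix F9 F9 F) = c.S cP := rfl
theorem Du_val : (c.Du : Matrix F9 F9 F) = c.S dP := rfl

theorem Cu_gen : (c.Cu : Matrix F9 F9 F) ∈ j3Gens F c.ω := by
  rw [c.Cu_val, c.fc.misc.ctab]
  exact Or.inr ⟨(1, 0), by decide, (j3C_eq c.ω _ (by decide)).symm⟩

theorem Du_gen : (c.Du : Matrix F9 F9 F) ∈ j3Gens F c.ω := by
  rw [c.Du_val, c.fc.misc.dtab]
  exact Or.inl (Or.inl (Or.inr ⟨(1, 1), (j3D_eq c.h2 c.hω _)⟩))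

theorem Xu_word : c.Xu = c.Cu * c.Du * c.Cu * c.Du * c.Du * c.Du := by
  apply Units.ext
  simp only [Units.val_mul, c.Xu_val, c.Cu_val, c.Du_val, ← c.S_mul]
  rw [← c.fc.misc.xword]

theorem Vu_word : c.Vu = c.Cu * c.Xu * c.Cu := by
  apply Units.ext
  simp only [Units.val_mul, c.Xu_val, c.Vu_val, c.Cu_val, ← c.S_mul]
  rw [← c.fc.misc.vword]

theorem Cu_inv : c.Cu⁻¹ = c.Cu := rfl

theorem threeJ3_eq : threeJ3 F c.ω = c.U := by
  apply le_antisymm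
  · unfold threeJ3
    rw [Subgroup.closure_le]
    intro g hg
    obtain ⟨u, hu, e⟩ := c.U_of_mem (c.gens_mem _ hg)
    rw [← Units.ext e]
    exact hu
  · unfold U
    rw [Subgroup.closure_le]
    have hC : c.Cu ∈ threeJ3 F c.ω := Subgroup.subset_closure c.Cu_gen
    have hD : c.Du ∈ threeJ3 F c.ω := Subgroup.subset_closure c.Du_gen
    have hX : c.Xu ∈ threeJ3 F c.ω := by
      rw [c.Xu_word]
      exact mul_mem (mul_mem (mul_mem (mul_mem (mul_mem hC hD) hC) hD) hD) hD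
    rintro g (rfl | hg)
    · exact hX
    · rw [Set.mem_singleton_iff.mp hg, c.Vu_word]
      exact mul_mem (mul_mem hC hX) hC

theorem Cu_mem : c.Cu ∈ c.U := by
  rw [← c.threeJ3_eq]
  exact Subgroup.subset_closure c.Cu_gen

/-! ### The centraliser of the element of order 17 -/

theorem centralizer_x (u : GL F9 F) (hu : u ∈ c.U) (hc : u * c.Xu = c.Xu * u) :
    ∃ e, e < 17 ∧ ∃ b, b < 3 ∧
      (u : Matrix F9 F9 F) = c.S xP ^ e * ((c.ω ^ b) • (1 : Matrix F9 F9 F)) ∧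
      (u : Matrix F9 F9 F) = c.S (mul (ppow e xP) (Wp b)) := by
  obtain ⟨i, hi, l, hl, e⟩ := c.mem_of_U u hu
  have hc' : (u : Matrix F9 F9 F) * c.S xP = c.S xP * (u : Matrix F9 F9 F) := by
    have := congrArg Units.val hc
    rwa [Units.val_mul, Units.val_mul, c.Xu_val] at this
  obtain ⟨hJ0, hL0, -, -, e0, -⟩ := sch_spec (c.fc.sch i hi)
  obtain ⟨l'', hl'', e1⟩ := c.k_closed l hl (L0 i) hL0
  obtain ⟨hR0, -, hx, -⟩ := (kk_spec (c.fc.kk l hl)).1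
  have e2 : c.S (repOf i) * c.S (kOf (R0 l)) = c.S (repOf (J0 i)) * c.S (kOf l'') := by
    rw [← hx, c.S_mul, ← mul_assoc, ← e, hc', e, ← mul_assoc, ← c.S_mul, e0, c.S_mul, mul_assoc, e1]
  have hi0 : i = i0 := fix_spec (c.fc.fix i hi) (c.param_inj hi hJ0 hR0 hl'' e2).1.symm
  subst hi0
  rw [c.fc.misc.rep0, c.S_one, one_mul] at e
  have hcomm : mul (kOf l) xP = mul xP (kOf l) := by
    apply c.S_inj (mul_lt _ _) (mul_lt _ _)
    rw [c.S_mul, c.S_mul, ← e, hc']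
  obtain ⟨a, ha, b, hb, e3⟩ := c.fc.misc.l51 _ ((kk_spec (c.fc.kk l hl)).2.2.2 hcomm)
  refine ⟨a, ha, b, hb, ?_, by rw [e, e3]⟩
  rw [e, e3, c.S_mul, c.S_ppow, c.S_Wp b hb]

end Ctx

end Cfsg.Agent.Lib.Helper95.J3
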