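import Cfsg.Agent.Lib.Helper95.J3.Pack

set_option autoImplicit false

/-! Tables as binary trees (the index is read from its lowest bit), bounded checks, powers of packed
matrices and the key of a line. -/

namespace Cfsg.Agent.Lib.Helper95.J3

inductive Tr where
  | leaf (v : Nat) : Tr
  | node (l r : Tr) : Tr

/-- the entry of a table at an index -/
noncomputable def Tr.get (t : Tr) : Nat → Nat :=
  @Tr.rec (fun _ => Nat → Nat) (fun v _ => v)
    (fun _ _ ihl ihr i => cond (Nat.beq (Nat.mod i 2) 0) (ihl (Nat.div i 2)) (ihr (Nat.div i 2))) t

/-- a field of `w` bits at offset `off` -/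
def fld (v off w : Nat) : Nat := Nat.mod (Nat.shiftRight v off) (Nat.pow 2 w)

/-- `f i` holds for `lo ≤ i < lo + n` -/
def allFrom (lo n : Nat) (f : Nat → Bool) : Bool :=
  @Nat.rec (fun _ => Bool) true (fun k ih => and (f (Nat.add lo k)) ih) n

theorem allFrom_spec (lo n : Nat) (f : Nat → Bool) (h : allFrom lo n f = true) :
    ∀ i, lo ≤ i → i < lo + n → f i = true := by
  induction n with
  | zero => intro i h1 h2; omega
  | succ k ih =>
    have h' : (f (lo + k) && allFrom lo k f) = true := h
    rw [Bool.and_eq_true] at h'
    intro i h1 h2
    by_cases hik : i = lo + k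
    · rw [hik]; exact h'.1
    · exact ih h'.2 i h1 (by omega)

/-- the packed identity matrix -/
def PID : Nat := 1210107565283851686118401

/-- the packed scalar matrix `ω` -/
def WI : Nat := 2925860560365287562542665234589536642254243889152

/-- the packed scalar matrix `ω²` -/
def W2I : Nat := 2925860560365287562542666444697101926105930007553

/-- powers of a packed matrix -/
def ppow (n a : Nat) : Nat := @Nat.rec (fun _ => Nat) PID (fun _ r => mul r a) n

theorem ppow_zero (a : Nat) : ppow 0 a = PID := rfl
theorem ppow_succ (n a : Nat) : ppow (n + 1) a = mul (ppow n a) a := rfl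

/-- the powers of the scalar `ω` -/
def Wp (e : Nat) : Nat := cond (Nat.beq e 0) PID (cond (Nat.beq e 1) WI W2I)

/-- the least of the three scalar multiples -/
def key (B : Nat) : Nat := min (min B (mul WI B)) (mul W2I B)

theorem beq_sound {a b : Nat} (h : Nat.beq a b = true) : a = b := Nat.eq_of_beq_eq_true h

theorem blt_sound {a b : Nat} (h : Nat.blt a b = true) : a < b := Nat.le_of_ble_eq_true h

/-- membership in a list of numbers -/
def inList (a : Nat) : List Nat → Bool
  | [] => false
  | b :: l => Nat.beq a b || inList a l

theorem inList_sound (a : Nat) (l : List Nat) (h : inList a l = true) : a ∈ l := by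
  induction l with
  | nil => simp [inList] at h
  | cons b l ih =>
    simp only [inList, Bool.or_eq_true] at h
    rcases h with h | h
    · rw [beq_sound h]; exact List.mem_cons_self
    · exact List.mem_cons_of_mem _ (ih h)

end Cfsg.Agent.Lib.Helper95.J3
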