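import Cfsg.Agent.Lib.Helper95.J3.Sem
import Cfsg.Agent.Lib.Helper95.J3.Tab

set_option autoImplicit false

/-! The generating matrices of the definitions as packed matrices. -/

namespace Cfsg.Agent.Lib.Helper95.J3

open Cfsg.Spor

/-- entry of a list -/
def nth : List Nat → Nat → Nat
  | [], _ => 0
  | a :: _, 0 => a
  | _ :: l, n + 1 => nth l n

def tabA (Z : F9) : Nat := nth [1210107565283851686118401, 2925857772772135150066342066286272728737304805377, 2925857772772135150066340858541043610025145140225, 2925860560365287560004886946310432006303883723777, 2923006062257616707413038538273747232490420961281, 2857285700823270143724528486497422696668726273, 2925860560365287560004885736202868976453183079425, 2857285700823270143724529665934996010641129473, 2923006062257616707413039747198413924516549886977] (idx Z)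

def tabE (Z : F9) : Nat := nth [2925860560365287562542664026844309775341898956801, 2925860560365287562540190563437939543739207779328, 2925860560365287560007364035314822382583442046976, 2925860560365284966394237177282133612353740080128, 2925860560362629106551096611770701565366977429505, 2925860557643028627175157528064285450922023191553, 2925857772772137746214772542625906609713082008576, 2923006064979875642780548663831230398599871332353, 2857285703481726135296778082790218672138880001] (idx Z)

def tabD (Z : F9) : Nat := nth [1210107565283851686118401, 1461501638692032385887438687164689509264143155716, 5708990776140751507373111964357478365106800642, 365732221255902219521185930787304836589930217536, 1298153442871853398703616588546304, 689601926562231162448178728534144, 21799339130872620334530366487353142288392, 174224571863530396823016114950666738204704, 87112285936830849052296079348945720983568] (idx Z)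

def tabB (Z : F9) : Nat := nth [0, 604610528798100114378753, 153476983322603824381953, 1210107565283851686118401, 302250478249787735015425, 19480050253860247191553, 75853160267482155976705, 9523133880129403551745, 37818131268884947279873] (idx Z)

def tabC (Z : F9) : Nat := nth [0, 1967309709124319630101505, 834827229618732556360705, 1892783774330118428726273, 66798833503918511824897, 359034458751800969355265, 1437223999942942727378945, 350107962032182110928897, 331274126670085407006721] (idx Z)


def c0 : Bool × Bool := (false, false)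
def c1 : Bool × Bool := (true, false)
def cw : Bool × Bool := (false, true)
def cw2 : Bool × Bool := (true, true)

def powCode (n : ZMod 3) : Bool × Bool := if n = 0 then c1 else if n = 1 then cw else cw2

def codeA (Z z w : F9) : Bool × Bool := if z = w then powCode (Z.1 * z.1 + Z.2 * z.2) else c0

def codeE (Z z w : F9) : Bool × Bool :=
  if z = w then powCode ((Z.1 - z.1) ^ 2 + (Z.2 - z.2) ^ 2) else c0

def codeLam (Z z : F9) : Bool × Bool :=
  if z = 0 then c1
  else if F9.div Z z = F9.I - F9.one then cw
  else if F9.div Z z = -F9.I - F9.one then cw2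
  else c1

def codeD (Z w z : F9) : Bool × Bool := if w = z + Z then codeLam Z z else c0

def codeB (Z w z : F9) : Bool × Bool := if w = F9.mul Z z then c1 else c0

def codeC (Z w z : F9) : Bool × Bool :=
  if z = 0 then (if w = 0 then c1 else c0)
  else if w = -F9.div Z z ∨ w = F9.mul F9.I (F9.div Z z) ∨ w = -F9.mul F9.I (F9.div Z z) then c1
  else c0

theorem codeA_tab : ∀ Z z w : F9, codeA Z z w = bitsOf (tabA Z) z w := by decide +kernel
theorem codeE_tab : ∀ Z z w : F9, codeE Z z w = bitsOf (tabE Z) z w := by decide +kernel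
theorem codeD_tab : ∀ Z z w : F9, codeD Z z w = bitsOf (tabD Z) z w := by decide +kernel
theorem codeB_tab : ∀ Z z w : F9, Z ≠ 0 → codeB Z z w = bitsOf (tabB Z) z w := by decide +kernel
theorem codeC_tab : ∀ Z z w : F9, Z ≠ 0 → codeC Z z w = bitsOf (tabC Z) z w := by decide +kernel
theorem PID_bits : ∀ z w : F9, (if z = w then c1 else c0) = bitsOf PID z w := by decide +kernel
theorem WI_bits : ∀ z w : F9, (if z = w then cw else c0) = bitsOf WI z w := by decide +kernel
theorem W2I_bits : ∀ z w : F9, (if z = w then cw2 else c0) = bitsOf W2I z w := by decide +kernel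

section
variable {F : Type*} [Field F]

theorem dec_c0 (ω : F) : dec ω c0 = 0 := dec_ff ω
theorem dec_c1 (ω : F) : dec ω c1 = 1 := dec_tf ω
theorem dec_cw (ω : F) : dec ω cw = ω := dec_ft ω
theorem dec_cw2 (h2 : (2 : F) = 0) {ω : F} (hω : ω ^ 2 + ω + 1 = 0) : dec ω cw2 = ω ^ 2 :=
  dec_tt h2 hω

theorem omegaPow_code (h2 : (2 : F) = 0) {ω : F} (hω : ω ^ 2 + ω + 1 = 0) (n : ZMod 3) :
    omegaPow F ω n = dec ω (powCode n) := by
  have hn : n = 0 ∨ n = 1 ∨ n = 2 := by revert n; decide
  unfold omegaPow powCode
  rcases hn with rfl | rfl | rfl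
  · rw [if_pos rfl, dec_c1, show (0 : ZMod 3).val = 0 from rfl, pow_zero]
  · rw [if_neg (by decide), if_pos rfl, dec_cw, show (1 : ZMod 3).val = 1 from rfl, pow_one]
  · rw [if_neg (by decide), if_neg (by decide), dec_cw2 h2 hω, show (2 : ZMod 3).val = 2 from rfl]

theorem j3A_eq (h2 : (2 : F) = 0) {ω : F} (hω : ω ^ 2 + ω + 1 = 0) (Z : F9) :
    j3A F ω Z = sem ω (tabA Z) := by
  apply sem_eq_of_bits ω _ _ (codeA Z) _ (codeA_tab Z)
  intro z w
  unfold j3A codeA
  rw [Matrix.diagonal_apply]
  split_ifs
  · exact omegaPow_code h2 hω _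
  · exact (dec_c0 ω).symm

theorem j3E_eq (h2 : (2 : F) = 0) {ω : F} (hω : ω ^ 2 + ω + 1 = 0) (Z : F9) :
    j3E F ω Z = sem ω (tabE Z) := by
  apply sem_eq_of_bits ω _ _ (codeE Z) _ (codeE_tab Z)
  intro z w
  unfold j3E codeE
  rw [Matrix.diagonal_apply]
  split_ifs
  · exact omegaPow_code h2 hω _
  · exact (dec_c0 ω).symm

theorem j3Lam_code (h2 : (2 : F) = 0) {ω : F} (hω : ω ^ 2 + ω + 1 = 0) (Z z : F9) :
    j3Lam F ω Z z = dec ω (codeLam Z z) := by
  unfold j3Lam codeLam
  split_ifs
  · exact (dec_c1 ω).symm
  · exact (dec_cw ω).symm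
  · exact (dec_cw2 h2 hω).symm
  · exact (dec_c1 ω).symm

theorem j3D_eq (h2 : (2 : F) = 0) {ω : F} (hω : ω ^ 2 + ω + 1 = 0) (Z : F9) :
    j3D F ω Z = sem ω (tabD Z) := by
  apply sem_eq_of_bits ω _ _ (codeD Z) _ (codeD_tab Z)
  intro w z
  unfold j3D codeD
  rw [Matrix.of_apply]
  split_ifs
  · exact j3Lam_code h2 hω _ _
  · exact (dec_c0 ω).symm

theorem j3B_eq (ω : F) (Z : F9) (hZ : Z ≠ 0) : j3B F Z = sem ω (tabB Z) := by
  apply sem_eq_of_bits ω _ _ (codeB Z) _ (fun z w => codeB_tab Z z w hZ)
  intro w z
  unfold j3B codeB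
  rw [Matrix.of_apply]
  split_ifs
  · exact (dec_c1 ω).symm
  · exact (dec_c0 ω).symm

theorem j3C_eq (ω : F) (Z : F9) (hZ : Z ≠ 0) : j3C F Z = sem ω (tabC Z) := by
  apply sem_eq_of_bits ω _ _ (codeC Z) _ (fun z w => codeC_tab Z z w hZ)
  intro w z
  unfold j3C codeC
  rw [Matrix.of_apply]
  split_ifs
  · exact (dec_c1 ω).symm
  · exact (dec_c0 ω).symm
  · exact (dec_c1 ω).symm
  · exact (dec_c0 ω).symm

theorem sem_PID (ω : F) : sem ω PID = 1 := by
  symm
  apply sem_eq_of_bits ω _ _ (fun z w => if z = w then c1 else c0) _ PID_bits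
  intro z w
  rw [Matrix.one_apply]
  split_ifs
  · exact (dec_c1 ω).symm
  · exact (dec_c0 ω).symm

theorem sem_WI (ω : F) : sem ω WI = ω • (1 : Matrix F9 F9 F) := by
  symm
  apply sem_eq_of_bits ω _ _ (fun z w => if z = w then cw else c0) _ WI_bits
  intro z w
  rw [Matrix.smul_apply, Matrix.one_apply]
  split_ifs
  · rw [dec_cw]; simp
  · rw [dec_c0]; simp

theorem sem_W2I (h2 : (2 : F) = 0) {ω : F} (hω : ω ^ 2 + ω + 1 = 0) :
    sem ω W2I = (ω ^ 2) • (1 : Matrix F9 F9 F) := by
  symm
  apply sem_eq_of_bits ω _ _ (fun z w => if z = w then cw2 else c0) _ W2I_bits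
  intro z w
  rw [Matrix.smul_apply, Matrix.one_apply]
  split_ifs
  · rw [dec_cw2 h2 hω]; simp
  · rw [dec_c0]; simp

end

end Cfsg.Agent.Lib.Helper95.J3
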