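import Cfsg.Agent.Lib.Helper95.J3.DataR
import Cfsg.Agent.Lib.Helper95.J3.DataK
import Cfsg.Agent.Lib.Helper95.J3.Gens

set_option autoImplicit false

/-! The tables and constants of the certificate. -/

namespace Cfsg.Agent.Lib.Helper95.J3

open Cfsg.Spor

/-- number of lines in the orbit -/
def nR : Nat := 20520
/-- order of the stabiliser of the base line -/
def nK : Nat := 7344
/-- index of the base line -/
def i0 : Nat := 14726
/-- index of the identity in the stabiliser -/
def l0 : Nat := 0
/-- index of the scalar `ω` in the stabiliser -/
def lW : Nat := 3945

/-- the element of order 17 -/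
def xP : Nat := 1165622929844134702068936429536659406408712773904
/-- its conjugate -/
def vP : Nat := 2009755004732611078047843784000566880059344819360
/-- the generator `C_(1,0)` -/
def cP : Nat := 1892783774330118428726273
/-- the generator `D_(1,1)` -/
def dP : Nat := 1298153442871853398703616588546304
/-- the inverse of `D_(1,1)` -/
def dInvP : Nat := 87112285936830849052296079348945720983568
/-- the column of the base line -/
def P0 : Nat := 11440282287012363171080937967204992556329861121
/-- the second generator of the stabiliser -/
def kapP : Nat := 4570859401331726687267379277613559808239892062795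
def iKap : Nat := 10616
def jKap : Nat := 18543

/-- the entry of a representative (64 entries of 249 bits in each leaf) -/
noncomputable def repE (i : Nat) : Nat :=
  fld (RT.get (Nat.div i 64)) (Nat.mul 249 (Nat.mod i 64)) 249
/-- the entry of an element of the stabiliser (64 entries of 215 bits in each leaf) -/
noncomputable def kE (l : Nat) : Nat :=
  fld (KT.get (Nat.div l 64)) (Nat.mul 215 (Nat.mod l 64)) 215

noncomputable def repOf (i : Nat) : Nat := fld (repE i) 0 162
noncomputable def J0 (i : Nat) : Nat := fld (repE i) 162 15
noncomputable def L0 (i : Nat) : Nat := fld (repE i) 177 13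
noncomputable def J1 (i : Nat) : Nat := fld (repE i) 190 15
noncomputable def L1 (i : Nat) : Nat := fld (repE i) 205 13
noncomputable def parR (i : Nat) : Nat := fld (repE i) 218 15
noncomputable def sgR (i : Nat) : Nat := fld (repE i) 233 1
noncomputable def rkR (i : Nat) : Nat := fld (repE i) 234 15

noncomputable def kOf (l : Nat) : Nat := fld (kE l) 0 162
noncomputable def R0 (l : Nat) : Nat := fld (kE l) 162 13
noncomputable def R1 (l : Nat) : Nat := fld (kE l) 175 13
noncomputable def parK (l : Nat) : Nat := fld (kE l) 188 13
noncomputable def sgK (l : Nat) : Nat := fld (kE l) 201 1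
noncomputable def rkK (l : Nat) : Nat := fld (kE l) 202 13

/-- the generators of the group -/
def genP (t : Nat) : Nat := cond (Nat.beq t 0) xP vP
/-- the generators of the stabiliser -/
def kapOf (t : Nat) : Nat := cond (Nat.beq t 0) xP kapP

/-- the key of the line of a representative -/
def keyOf (a : Nat) : Nat := key (mul a P0)

def certA (Z : F9) : Nat := nth [120635392, 44022238, 128746938, 128016684, 44897445, 120817468, 112763168, 1420564, 112521481] (idx Z)
def certE (Z : F9) : Nat := nth [120134695, 44982489, 128754312, 128432188, 44906021, 120335135, 112773617, 635241, 113050185] (idx Z)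
def certD (Z : F9) : Nat := nth [120635392, 57165716, 74909197, 11709597, 72325202, 59241399, 45257999, 40105062, 23704752] (idx Z)
def certB (Z : F9) : Nat := nth [0, 128750293, 128016627, 120635392, 13181989, 6192270, 120816386, 6208318, 14097302] (idx Z)
def certC (Z : F9) : Nat := nth [0, 29881152, 30663648, 16189123, 1517465, 7077032, 15324310, 7997006, 2413335] (idx Z)

end Cfsg.Agent.Lib.Helper95.J3
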