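import Cfsg.Agent.Lib.Helper95.J3.Core5

set_option autoImplicit false

/-! Lists of packed matrices closed under right multiplication by generators, and the subgroups
they form. -/

namespace Cfsg.Agent.Lib.Helper95.J3

open Cfsg.Spor
open scoped MatrixGroups

/-- `f i` holds for some `lo ≤ i < lo + n` -/
def anyFrom (lo n : Nat) (f : Nat → Bool) : Bool :=
  @Nat.rec (fun _ => Bool) false (fun k ih => or (f (Nat.add lo k)) ih) n

theorem anyFrom_spec (lo n : Nat) (f : Nat → Bool) (h : anyFrom lo n f = true) :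
    ∃ i, lo ≤ i ∧ i < lo + n ∧ f i = true := by
  induction n with
  | zero => exact absurd h (by simp [anyFrom])
  | succ k ih =>
    have h' : (f (lo + k) || anyFrom lo k f) = true := h
    rw [Bool.or_eq_true] at h'
    rcases h' with h' | h'
    · exact ⟨lo + k, by omega, by omega, h'⟩
    · obtain ⟨i, h1, h2, h3⟩ := ih h'
      exact ⟨i, h1, by omega, h3⟩

theorem allFrom_zero_spec {n : Nat} {f : Nat → Bool} (h : allFrom 0 n f = true) :
    ∀ i, i < n → f i = true := fun i hi => allFrom_spec 0 n f h i (Nat.zero_le _) (by omega)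

theorem anyFrom_zero_spec {n : Nat} {f : Nat → Bool} (h : anyFrom 0 n f = true) :
    ∃ i, i < n ∧ f i = true := by
  obtain ⟨i, -, h2, h3⟩ := anyFrom_spec 0 n f h
  exact ⟨i, by omega, h3⟩

/-- a table of packed matrices with parents, ranks and products with the generators -/
structure GLst where
  T : Tr
  n : Nat
  ng : Nat
  gen : Nat → Nat
  l0 : Nat

namespace GLst

variable (L : GLst)

/-- the entry (64 entries of 285 bits in each leaf) -/
noncomputable def ent (l : Nat) : Nat :=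
  fld (L.T.get (Nat.div l 64)) (Nat.mul 285 (Nat.mod l 64)) 285
noncomputable def elt (l : Nat) : Nat := fld (L.ent l) 0 162
noncomputable def par (l : Nat) : Nat := fld (L.ent l) 162 11
noncomputable def sg (l : Nat) : Nat := fld (L.ent l) 173 3
noncomputable def rk (l : Nat) : Nat := fld (L.ent l) 176 11
noncomputable def R (g l : Nat) : Nat := fld (L.ent l) (Nat.add 187 (Nat.mul 11 g)) 11
noncomputable def aux (l : Nat) : Nat := fld (L.ent l) 253 32

noncomputable def chkGen (l g : Nat) : Bool :=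
  Nat.blt (L.R g l) L.n && Nat.beq (mul (L.elt l) (L.gen g)) (L.elt (L.R g l))

noncomputable def chk (l : Nat) : Bool :=
  allFrom 0 L.ng (L.chkGen l) &&
  (Nat.beq l L.l0 || (Nat.blt (L.par l) L.n && Nat.blt (L.rk (L.par l)) (L.rk l) &&
    Nat.blt (L.sg l) L.ng && Nat.beq (L.elt l) (mul (L.elt (L.par l)) (L.gen (L.sg l)))))

noncomputable def chkSort (l : Nat) : Bool := Nat.blt (L.elt l) (L.elt (Nat.add l 1))

/-- the checks of a table -/
structure Ok : Prop where
  chk : allFrom 0 L.n L.chk = true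
  sort : allFrom 0 (L.n - 1) L.chkSort = true
  l0lt : Nat.blt L.l0 L.n = true
  id : Nat.beq (L.elt L.l0) PID = true

variable {L}

theorem Ok.gen_spec (h : L.Ok) {l : Nat} (hl : l < L.n) {g : Nat} (hg : g < L.ng) :
    L.R g l < L.n ∧ mul (L.elt l) (L.gen g) = L.elt (L.R g l) := by
  have h1 := allFrom_zero_spec h.chk l hl
  unfold GLst.chk at h1
  rw [Bool.and_eq_true] at h1
  have h2 := allFrom_zero_spec h1.1 g hg
  unfold GLst.chkGen at h2
  rw [Bool.and_eq_true] at h2
  exact ⟨blt_sound h2.1, beq_sound h2.2⟩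

theorem Ok.par_spec (h : L.Ok) {l : Nat} (hl : l < L.n) (hne : l ≠ L.l0) :
    L.par l < L.n ∧ L.rk (L.par l) < L.rk l ∧ L.sg l < L.ng ∧
      L.elt l = mul (L.elt (L.par l)) (L.gen (L.sg l)) := by
  have h1 := allFrom_zero_spec h.chk l hl
  unfold GLst.chk at h1
  simp only [Bool.and_eq_true, Bool.or_eq_true] at h1
  rcases h1.2 with h2 | ⟨⟨⟨a, b⟩, c⟩, d⟩
  · exact absurd (beq_sound h2) hne
  · exact ⟨blt_sound a, blt_sound b, blt_sound c, beq_sound d⟩

theorem Ok.sort_spec (h : L.Ok) {l : Nat} (hl : l + 1 < L.n) : L.elt l < L.elt (l + 1) :=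
  blt_sound (allFrom_zero_spec h.sort l (by omega))

theorem Ok.l0_lt (h : L.Ok) : L.l0 < L.n := blt_sound h.l0lt

theorem Ok.elt_l0 (h : L.Ok) : L.elt L.l0 = PID := beq_sound h.id

theorem elt_lt (L : GLst) (l : Nat) : L.elt l < 2 ^ 162 := fld_lt _ _ _

theorem Ok.elt_inj (h : L.Ok) {l l' : Nat} (hl : l < L.n) (hl' : l' < L.n)
    (e : L.elt l = L.elt l') : l = l' :=
  inj_of_succ L.elt L.n (fun _ hi => h.sort_spec hi) l l' hl hl' e

end GLst

namespace Ctx

variable {F : Type*} [Field F] (c : Ctx F)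

/-- a checked table whose generators are in the group -/
structure GOk (L : GLst) : Prop where
  ok : L.Ok
  gen : ∀ g, g < L.ng → c.InU (L.gen g)

variable {c} {L : GLst}

theorem GOk.inU_elt (h : c.GOk L) : ∀ l, l < L.n → c.InU (L.elt l) := by
  suffices hh : ∀ m l, l < L.n → L.rk l = m → c.InU (L.elt l) from fun l hl => hh _ l hl rfl
  intro m
  induction m using Nat.strong_induction_on with
  | _ m ih =>
    intro l hl hm
    by_cases h0 : l = L.l0
    · rw [h0, h.ok.elt_l0]; exact c.inU_one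
    · obtain ⟨h1, h2, h3, h4⟩ := h.ok.par_spec hl h0
      rw [h4]
      exact c.inU_mul (ih _ (hm ▸ h2) _ h1 rfl) (h.gen _ h3)

/-- the table is closed under multiplication -/
theorem GOk.closed (h : c.GOk L) : ∀ l', l' < L.n → ∀ l, l < L.n →
    ∃ l'', l'' < L.n ∧ c.S (L.elt l) * c.S (L.elt l') = c.S (L.elt l'') := by
  suffices hh : ∀ m l', l' < L.n → L.rk l' = m → ∀ l, l < L.n →
      ∃ l'', l'' < L.n ∧ c.S (L.elt l) * c.S (L.elt l') = c.S (L.elt l'') from
    fun l' hl' => hh _ l' hl' rfl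
  intro m
  induction m using Nat.strong_induction_on with
  | _ m ih =>
    intro l' hl' hm l hl
    by_cases h0 : l' = L.l0
    · exact ⟨l, hl, by rw [h0, h.ok.elt_l0, c.S_one, mul_one]⟩
    · obtain ⟨h1, h2, h3, h4⟩ := h.ok.par_spec hl' h0
      obtain ⟨m', hm', e⟩ := ih _ (hm ▸ h2) _ h1 rfl l hl
      obtain ⟨hR, hmul⟩ := h.ok.gen_spec hm' h3
      exact ⟨L.R (L.sg l') m', hR, by rw [h4, c.S_mul, ← mul_assoc, e, ← c.S_mul, hmul]⟩

/-- the subgroup formed by the table -/
noncomputable def GOk.sub [Finite F] (h : c.GOk L) : Subgroup c.U where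
  carrier := {u | ∃ l, l < L.n ∧ ((u : GL F9 F) : Matrix F9 F9 F) = c.S (L.elt l)}
  mul_mem' := by
    rintro a b ⟨l, hl, ea⟩ ⟨l', hl', eb⟩
    obtain ⟨l'', hl'', e⟩ := h.closed l' hl' l hl
    exact ⟨l'', hl'', by rw [c.val_mul_U, ea, eb, e]⟩
  one_mem' := ⟨L.l0, h.ok.l0_lt, by rw [h.ok.elt_l0, c.S_one]; rfl⟩
  inv_mem' := by
    intro a ha
    have hpow : ∀ k : ℕ, ∃ l, l < L.n ∧ (((a ^ k : c.U) : GL F9 F) : Matrix F9 F9 F) = c.S (L.elt l) := by
      intro k
      induction k with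
      | zero => exact ⟨L.l0, h.ok.l0_lt, by rw [pow_zero, h.ok.elt_l0, c.S_one]; rfl⟩
      | succ k ih =>
        obtain ⟨l, hl, ea⟩ := ha
        obtain ⟨l', hl', eb⟩ := ih
        obtain ⟨l'', hl'', e⟩ := h.closed l hl l' hl'
        exact ⟨l'', hl'', by rw [pow_succ, c.val_mul_U, ea, eb, e]⟩
    have hinv : a⁻¹ = a ^ (orderOf a - 1) := by
      apply inv_eq_of_mul_eq_one_right
      rw [← pow_succ', Nat.sub_add_cancel (orderOf_pos a), pow_orderOf_eq_one]
    rw [hinv]
    exact hpow _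

theorem GOk.mem_sub [Finite F] (h : c.GOk L) (u : c.U) :
    u ∈ h.sub ↔ ∃ l, l < L.n ∧ ((u : GL F9 F) : Matrix F9 F9 F) = c.S (L.elt l) := Iff.rfl

theorem GOk.card_sub [Finite F] (h : c.GOk L) : Nat.card h.sub = L.n := by
  classical
  have hex : ∀ l : Fin L.n, ∃ u : c.U, ((u : GL F9 F) : Matrix F9 F9 F) = c.S (L.elt l) := by
    intro l
    obtain ⟨u, hu, e⟩ := h.inU_elt l l.2
    exact ⟨⟨u, hu⟩, e⟩
  let f : Fin L.n → h.sub := fun l => ⟨(hex l).choose, ⟨l, l.2, (hex l).choose_spec⟩⟩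
  have hf : ∀ l, (((f l : c.U) : GL F9 F) : Matrix F9 F9 F) = c.S (L.elt l) :=
    fun l => (hex l).choose_spec
  have hbij : Function.Bijective f := by
    constructor
    · intro p q e
      have e' : c.S (L.elt p) = c.S (L.elt q) := by rw [← hf p, ← hf q, e]
      exact Fin.ext (h.ok.elt_inj p.2 q.2 (c.S_inj (L.elt_lt _) (L.elt_lt _) e'))
    · rintro ⟨u, l, hl, e⟩
      refine ⟨⟨l, hl⟩, ?_⟩
      apply Subtype.ext
      apply c.ext_U
      rw [hf, e]
  rw [← Nat.card_eq_of_bijective f hbij, Nat.card_fin]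

/-- a subgroup containing the generators contains the subgroup of the table -/
theorem GOk.sub_le [Finite F] (h : c.GOk L) (N : Subgroup c.U)
    (hN : ∀ g, g < L.ng → ∀ u : c.U, ((u : GL F9 F) : Matrix F9 F9 F) = c.S (L.gen g) → u ∈ N) :
    h.sub ≤ N := by
  suffices hh : ∀ m l, l < L.n → L.rk l = m →
      ∀ u : c.U, ((u : GL F9 F) : Matrix F9 F9 F) = c.S (L.elt l) → u ∈ N by
    rintro u ⟨l, hl, e⟩
    exact hh _ l hl rfl u e
  intro m
  induction m using Nat.strong_induction_on with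
  | _ m ih =>
    intro l hl hm u e
    by_cases h0 : l = L.l0
    · rw [h0, h.ok.elt_l0, c.S_one] at e
      have : u = 1 := c.ext_U e
      rw [this]; exact N.one_mem
    · obtain ⟨h1, h2, h3, h4⟩ := h.ok.par_spec hl h0
      obtain ⟨u₁, hu₁, e₁⟩ := h.inU_elt _ h1
      obtain ⟨u₂, hu₂, e₂⟩ := h.gen _ h3
      have hu : u = (⟨u₁, hu₁⟩ : c.U) * ⟨u₂, hu₂⟩ := by
        apply c.ext_U
        rw [c.val_mul_U, e, h4, c.S_mul]
        show _ = (u₁ : Matrix F9 F9 F) * (u₂ : Matrix F9 F9 F)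
        rw [e₁, e₂]
      rw [hu]
      exact N.mul_mem (ih _ (hm ▸ h2) _ h1 rfl _ e₁) (hN _ h3 _ e₂)

/-- the generators are in the subgroup of the table -/
theorem GOk.gen_mem [Finite F] (h : c.GOk L) {g : Nat} (hg : g < L.ng) (u : c.U)
    (e : ((u : GL F9 F) : Matrix F9 F9 F) = c.S (L.gen g)) : u ∈ h.sub := by
  obtain ⟨hR, hmul⟩ := h.ok.gen_spec h.ok.l0_lt hg
  refine ⟨_, hR, ?_⟩
  rw [e, ← hmul, c.S_mul, h.ok.elt_l0, c.S_one, one_mul]

/-- an element of the group with the matrix of a packed matrix -/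
theorem InU.exists {a : Nat} (h : c.InU a) :
    ∃ u : c.U, ((u : GL F9 F) : Matrix F9 F9 F) = c.S a := by
  obtain ⟨u, hu, e⟩ := h
  exact ⟨⟨u, hu⟩, e⟩

end Ctx

end Cfsg.Agent.Lib.Helper95.J3
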