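import Cfsg.Agent.Lib.Helper95.J3.GList
import Cfsg.Agent.Lib.Helper95.J3.DataInv

set_option autoImplicit false

/-! The tables and the boolean checks for the centraliser of an involution. -/

namespace Cfsg.Agent.Lib.Helper95.J3

/-- the complement of the centre in the centraliser of the involution -/
noncomputable def LC : GLst := ⟨CT, 1920, 2, fun g => cond (Nat.beq g 0) c1P c2P, lC0⟩

/-- the generators of the normal subgroup of order 32 -/
def genQ (g : Nat) : Nat := cond (Nat.beq g 0) q0P (cond (Nat.beq g 1) q1P (cond (Nat.beq g 2) q2P q3P))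

/-- the normal subgroup of order 32 -/
noncomputable def LQ : GLst := ⟨QT, 32, 4, genQ, lQ0⟩

/-- the generators of the Sylow 2-subgroup -/
def genS (g : Nat) : Nat := cond (Nat.beq g 0) s0P (cond (Nat.beq g 1) s1P s2P)

/-- a Sylow 2-subgroup -/
noncomputable def LS : GLst := ⟨ST, 128, 3, genS, lS0⟩

/-- indices of the generators of the normal subgroup in the centraliser -/
def idxQ (g : Nat) : Nat := cond (Nat.beq g 0) q0m (cond (Nat.beq g 1) q1m (cond (Nat.beq g 2) q2m q3m))

/-- indices of the generators of the Sylow subgroup in the centraliser -/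
def idxS (g : Nat) : Nat := cond (Nat.beq g 0) s0m (cond (Nat.beq g 1) s1m s2m)

/-! ### Fixed lines of the involution -/

/-- a certificate in the list moves the line `i` to the base line by an element of the centraliser -/
noncomputable def fixCert (i : Nat) : List Nat → Bool
  | [] => false
  | e :: l => (Nat.beq (fld e 0 15) i && Nat.blt (fld e 15 11) 1920 && Nat.blt (fld e 26 13) nK &&
      Nat.beq (mul (LC.elt (fld e 15 11)) (repOf i)) (kOf (fld e 26 13))) || fixCert i l

theorem fixCert_sound (i : Nat) (l : List Nat) (h : fixCert i l = true) :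
    ∃ m, m < 1920 ∧ ∃ k, k < nK ∧ mul (LC.elt m) (repOf i) = kOf k := by
  induction l with
  | nil => simp [fixCert] at h
  | cons e l ih =>
    simp only [fixCert, Bool.or_eq_true, Bool.and_eq_true] at h
    rcases h with ⟨⟨⟨-, h2⟩, h3⟩, h4⟩ | h
    · exact ⟨_, blt_sound h2, _, blt_sound h3, beq_sound h4⟩
    · exact ih h

/-- a line fixed by the involution has a certificate -/
noncomputable def chkFixT (i : Nat) : Bool :=
  !(Nat.beq (key (mul tP (mul (repOf i) P0))) (keyOf (repOf i))) || fixCert i FIXL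

theorem chkFixT_spec {i : Nat} (h : chkFixT i = true)
    (hk : key (mul tP (mul (repOf i) P0)) = keyOf (repOf i)) :
    ∃ m, m < 1920 ∧ ∃ k, k < nK ∧ mul (LC.elt m) (repOf i) = kOf k := by
  unfold chkFixT at h
  rw [Bool.or_eq_true] at h
  rcases h with h | h
  · exfalso
    rw [hk, Nat.beq_refl] at h
    exact Bool.noConfusion h
  · exact fixCert_sound i FIXL h

/-! ### The centraliser of the involution in the stabiliser -/

/-- a certificate in the list writes the element `l` of the stabiliser as a scalar times an element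
of the centraliser -/
noncomputable def ckCert (l : Nat) : List Nat → Bool
  | [] => false
  | e :: r => (Nat.beq (fld e 0 13) l && Nat.blt (fld e 13 2) 3 && Nat.blt (fld e 15 11) 1920 &&
      Nat.beq (kOf l) (mul (Wp (fld e 13 2)) (LC.elt (fld e 15 11)))) || ckCert l r

theorem ckCert_sound (l : Nat) (r : List Nat) (h : ckCert l r = true) :
    ∃ b, b < 3 ∧ ∃ m, m < 1920 ∧ kOf l = mul (Wp b) (LC.elt m) := by
  induction r with
  | nil => simp [ckCert] at h
  | cons e r ih =>
    simp only [ckCert, Bool.or_eq_true, Bool.and_eq_true] at h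
    rcases h with ⟨⟨⟨-, h2⟩, h3⟩, h4⟩ | h
    · exact ⟨_, blt_sound h2, _, blt_sound h3, beq_sound h4⟩
    · exact ih h

noncomputable def chkCK (l : Nat) : Bool :=
  !(Nat.beq (mul (kOf l) tP) (mul tP (kOf l))) || ckCert l CKL

theorem chkCK_spec {l : Nat} (h : chkCK l = true) (hc : mul (kOf l) tP = mul tP (kOf l)) :
    ∃ b, b < 3 ∧ ∃ m, m < 1920 ∧ kOf l = mul (Wp b) (LC.elt m) := by
  unfold chkCK at h
  rw [Bool.or_eq_true] at h
  rcases h with h | h
  · exfalso
    rw [hc, Nat.beq_refl] at h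
    exact Bool.noConfusion h
  · exact ckCert_sound l CKL h

/-! ### No scalars in the complement -/

noncomputable def chkNoW (m : Nat) : Bool := !(Nat.beq (LC.elt m) WI) && !(Nat.beq (LC.elt m) W2I)

theorem chkNoW_spec {m : Nat} (h : chkNoW m = true) : LC.elt m ≠ WI ∧ LC.elt m ≠ W2I := by
  unfold chkNoW at h
  rw [Bool.and_eq_true] at h
  constructor
  · intro e
    rw [e, Nat.beq_refl] at h
    exact Bool.noConfusion h.1
  · intro e
    rw [e, Nat.beq_refl] at h
    exact Bool.noConfusion h.2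

/-! ### The normal subgroup -/

/-- the generators of the centraliser normalise the normal subgroup -/
noncomputable def chkNorm : Bool :=
  allFrom 0 2 (fun a => allFrom 0 4 (fun q => anyFrom 0 32 (fun m =>
    Nat.beq (mul (LC.gen a) (genQ q)) (mul (LQ.elt m) (LC.gen a)))))

theorem chkNorm_spec (h : chkNorm = true) {a q : Nat} (ha : a < 2) (hq : q < 4) :
    ∃ m, m < 32 ∧ mul (LC.gen a) (genQ q) = mul (LQ.elt m) (LC.gen a) := by
  obtain ⟨m, hm, e⟩ := anyFrom_zero_spec (allFrom_zero_spec (allFrom_zero_spec h a ha) q hq)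
  exact ⟨m, hm, beq_sound e⟩

/-- commutators lie in the centre -/
noncomputable def chkComm : Bool :=
  allFrom 0 32 (fun i => allFrom 0 32 (fun j =>
    Nat.beq (mul (LQ.elt i) (LQ.elt j)) (mul (LQ.elt j) (LQ.elt i)) ||
    Nat.beq (mul (LQ.elt i) (LQ.elt j)) (mul tP (mul (LQ.elt j) (LQ.elt i)))))

theorem chkComm_spec (h : chkComm = true) {i j : Nat} (hi : i < 32) (hj : j < 32) :
    mul (LQ.elt i) (LQ.elt j) = mul (LQ.elt j) (LQ.elt i) ∨
    mul (LQ.elt i) (LQ.elt j) = mul tP (mul (LQ.elt j) (LQ.elt i)) := by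
  have := allFrom_zero_spec (allFrom_zero_spec h i hi) j hj
  rw [Bool.or_eq_true] at this
  exact this.imp beq_sound beq_sound

/-- squares lie in the centre -/
noncomputable def chkSq : Bool :=
  allFrom 0 32 (fun i => Nat.beq (mul (LQ.elt i) (LQ.elt i)) PID ||
    Nat.beq (mul (LQ.elt i) (LQ.elt i)) tP)

theorem chkSq_spec (h : chkSq = true) {i : Nat} (hi : i < 32) :
    mul (LQ.elt i) (LQ.elt i) = PID ∨ mul (LQ.elt i) (LQ.elt i) = tP := by
  have := allFrom_zero_spec h i hi
  rw [Bool.or_eq_true] at this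
  exact this.imp beq_sound beq_sound

/-- the centre has order two -/
noncomputable def chkCen : Bool :=
  allFrom 0 32 (fun i => Nat.beq (LQ.elt i) PID || Nat.beq (LQ.elt i) tP ||
    anyFrom 0 4 (fun g => !(Nat.beq (mul (LQ.elt i) (genQ g)) (mul (genQ g) (LQ.elt i)))))

theorem chkCen_spec (h : chkCen = true) {i : Nat} (hi : i < 32) :
    LQ.elt i = PID ∨ LQ.elt i = tP ∨
      ∃ g, g < 4 ∧ mul (LQ.elt i) (genQ g) ≠ mul (genQ g) (LQ.elt i) := by
  have := allFrom_zero_spec h i hi
  simp only [Bool.or_eq_true] at this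
  rcases this with (h1 | h1) | h1
  · exact Or.inl (beq_sound h1)
  · exact Or.inr (Or.inl (beq_sound h1))
  · obtain ⟨g, hg, e⟩ := anyFrom_zero_spec h1
    refine Or.inr (Or.inr ⟨g, hg, ?_⟩)
    intro e'
    rw [e', Nat.beq_refl] at e
    exact Bool.noConfusion e

/-! ### No elementary abelian subgroup of order eight -/

noncomputable def chkE8c (i j k : Nat) : Bool :=
  !(Nat.beq (mul (LQ.elt k) (LQ.elt k)) PID) ||
  !(Nat.beq (mul (LQ.elt i) (LQ.elt k)) (mul (LQ.elt k) (LQ.elt i))) ||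
  !(Nat.beq (mul (LQ.elt j) (LQ.elt k)) (mul (LQ.elt k) (LQ.elt j))) ||
  Nat.beq (LQ.elt k) PID || Nat.beq (LQ.elt k) (LQ.elt i) || Nat.beq (LQ.elt k) (LQ.elt j) ||
  Nat.beq (LQ.elt k) (mul (LQ.elt i) (LQ.elt j))

noncomputable def chkE8b (i j : Nat) : Bool :=
  !(Nat.beq (mul (LQ.elt j) (LQ.elt j)) PID) || Nat.beq (LQ.elt j) PID ||
  Nat.beq (LQ.elt j) (LQ.elt i) ||
  !(Nat.beq (mul (LQ.elt i) (LQ.elt j)) (mul (LQ.elt j) (LQ.elt i))) ||
  allFrom 0 32 (chkE8c i j)

noncomputable def chkE8a (i : Nat) : Bool :=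
  !(Nat.beq (mul (LQ.elt i) (LQ.elt i)) PID) || Nat.beq (LQ.elt i) PID ||
  allFrom 0 32 (chkE8b i)

noncomputable def chkE8 : Bool := allFrom 0 32 chkE8a

theorem not_beq_false {a b : Nat} (h : (!(Nat.beq a b)) = true) (e : a = b) : False := by
  rw [e, Nat.beq_refl] at h
  exact Bool.noConfusion h

theorem chkE8_spec (h : chkE8 = true) {i j k : Nat} (hi : i < 32) (hj : j < 32) (hk : k < 32)
    (ha2 : mul (LQ.elt i) (LQ.elt i) = PID) (hb2 : mul (LQ.elt j) (LQ.elt j) = PID)
    (hc2 : mul (LQ.elt k) (LQ.elt k) = PID)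
    (hab : mul (LQ.elt i) (LQ.elt j) = mul (LQ.elt j) (LQ.elt i))
    (hac : mul (LQ.elt i) (LQ.elt k) = mul (LQ.elt k) (LQ.elt i))
    (hbc : mul (LQ.elt j) (LQ.elt k) = mul (LQ.elt k) (LQ.elt j))
    (ha1 : LQ.elt i ≠ PID) (hb1 : LQ.elt j ≠ PID) (hba : LQ.elt j ≠ LQ.elt i) :
    LQ.elt k = PID ∨ LQ.elt k = LQ.elt i ∨ LQ.elt k = LQ.elt j ∨
      LQ.elt k = mul (LQ.elt i) (LQ.elt j) := by
  have h1 := allFrom_zero_spec h i hi
  unfold chkE8a at h1
  simp only [Bool.or_eq_true] at h1
  rcases h1 with (h1 | h1) | h1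
  · exact absurd ha2 (fun e => not_beq_false h1 e)
  · exact absurd (beq_sound h1) ha1
  have h2 := allFrom_zero_spec h1 j hj
  unfold chkE8b at h2
  simp only [Bool.or_eq_true] at h2
  rcases h2 with (((h2 | h2) | h2) | h2) | h2
  · exact absurd hb2 (fun e => not_beq_false h2 e)
  · exact absurd (beq_sound h2) hb1
  · exact absurd (beq_sound h2) hba
  · exact absurd hab (fun e => not_beq_false h2 e)
  have h3 := allFrom_zero_spec h2 k hk
  unfold chkE8c at h3
  simp only [Bool.or_eq_true] at h3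
  rcases h3 with (((((h3 | h3) | h3) | h3) | h3) | h3) | h3
  · exact absurd hc2 (fun e => not_beq_false h3 e)
  · exact absurd hac (fun e => not_beq_false h3 e)
  · exact absurd hbc (fun e => not_beq_false h3 e)
  · exact Or.inl (beq_sound h3)
  · exact Or.inr (Or.inl (beq_sound h3))
  · exact Or.inr (Or.inr (Or.inl (beq_sound h3)))
  · exact Or.inr (Or.inr (Or.inr (beq_sound h3)))

/-! ### The involutions of the Sylow subgroup -/

noncomputable def chkSinv (l : Nat) : Bool :=
  !(Nat.beq (mul (LS.elt l) (LS.elt l)) PID) || Nat.beq (LS.elt l) PID ||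
  (Nat.blt (fld (LS.aux l) 0 15) nR && Nat.blt (fld (LS.aux l) 15 13) nK &&
    Nat.beq (mul (mul (repOf (fld (LS.aux l) 0 15)) (kOf (fld (LS.aux l) 15 13))) (LS.elt l))
      (mul tP (mul (repOf (fld (LS.aux l) 0 15)) (kOf (fld (LS.aux l) 15 13)))))

theorem chkSinv_spec {l : Nat} (h : chkSinv l = true) (h2 : mul (LS.elt l) (LS.elt l) = PID)
    (h1 : LS.elt l ≠ PID) :
    ∃ j, j < nR ∧ ∃ k, k < nK ∧
      mul (mul (repOf j) (kOf k)) (LS.elt l) = mul tP (mul (repOf j) (kOf k)) := by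
  unfold chkSinv at h
  simp only [Bool.or_eq_true, Bool.and_eq_true] at h
  rcases h with (h | h) | ⟨⟨a, b⟩, d⟩
  · exact absurd h2 (fun e => not_beq_false h e)
  · exact absurd (beq_sound h) h1
  · exact ⟨_, blt_sound a, _, blt_sound b, beq_sound d⟩

/-! ### The small checks -/

structure InvMisc : Prop where
  t2 : mul tP tP = PID
  tne : tP ≠ PID
  tP0 : mul tP P0 = P0
  tC : LC.elt mT = tP
  mTlt : mT < 1920
  tQ : LQ.elt mTQ = tP
  mTQlt : mTQ < 32
  c1 : c1P = mul (repOf c1i) (kOf c1l)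
  c1lt : c1i < nR ∧ c1l < nK
  c2 : c2P = mul (repOf c2i) (kOf c2l)
  c2lt : c2i < nR ∧ c2l < nK
  c1t : mul c1P tP = mul tP c1P
  c2t : mul c2P tP = mul tP c2P
  qC : ∀ g, g < 4 → idxQ g < 1920 ∧ LC.elt (idxQ g) = genQ g
  sC : ∀ g, g < 3 → idxS g < 1920 ∧ LC.elt (idxS g) = genS g
  xC : LC.elt mX = XP
  mXlt : mX < 1920
  yC : LC.elt mY = YP
  mYlt : mY < 1920
  x3 : ppow 3 XP = PID
  y5 : ppow 5 YP = PID
  xy2 : mul (mul XP YP) (mul XP YP) = PID
  xne : XP ≠ PID
  nc : mul (genQ ncA) (genQ ncB) ≠ mul (genQ ncB) (genQ ncA)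
  nclt : ncA < 4 ∧ ncB < 4

/-- all the facts about the centraliser of the involution -/
structure InvFacts : Prop where
  okC : LC.Ok
  okQ : LQ.Ok
  okS : LS.Ok
  fixT : ∀ i, i < nR → chkFixT i = true
  ck : ∀ l, l < nK → chkCK l = true
  noW : ∀ m, m < 1920 → chkNoW m = true
  norm : chkNorm = true
  comm : chkComm = true
  sq : chkSq = true
  cen : chkCen = true
  e8 : chkE8 = true
  sinv : ∀ l, l < 128 → chkSinv l = true
  misc : InvMisc

end Cfsg.Agent.Lib.Helper95.J3
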