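import Cfsg.Agent.Lib.Helper95.J3.CertAll
import Cfsg.Prelude.Def_Classical
import Cfsg.Prelude.Def_Sporadic

set_option autoImplicit false

/-! The group `3·J₃` inside the special unitary group of dimension 9 over the field with four
elements. -/

namespace Cfsg.Agent.Lib.Helper95.J3

open Cfsg.Spor
open scoped MatrixGroups
open Matrix

/-- the conjugate transpose of the element of order 17 -/
def xCT : Nat := 1506036842164157464983162673055637396951438640
/-- the conjugate transpose of its conjugate -/
def vCT : Nat := 793572126919018748363778903945569227081714257936

/-- the code of the square of an element -/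
def conjCode (c : Bool × Bool) : Bool × Bool := (c.1 ^^ c.2, c.2)

theorem xCT_bits : ∀ z w : F9, bitsOf xCT z w = conjCode (bitsOf xP w z) := by decide +kernel
theorem vCT_bits : ∀ z w : F9, bitsOf vCT z w = conjCode (bitsOf vP w z) := by decide +kernel
theorem xCT_mul : mul xCT xP = PID := by decide +kernel
theorem vCT_mul : mul vCT vP = PID := by decide +kernel

end Cfsg.Agent.Lib.Helper95.J3
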