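import Cfsg.Agent.Lib.Helper95.J3.InvDefs
import Cfsg.Agent.Lib.Helper95.J3.DataOut
import Cfsg.Agent.Lib.Helper95.J3.SUData

set_option autoImplicit false

/-! The tables and the boolean checks for the outer automorphism group. -/

namespace Cfsg.Agent.Lib.Helper95.J3

open Cfsg.Spor

/-- the entry of an involution (64 entries of 192 bits in each leaf) -/
noncomputable def iE (l : Nat) : Nat := fld (IT.get (Nat.div l 64)) (Nat.mul 192 (Nat.mod l 64)) 192
noncomputable def LI (l : Nat) : Nat := fld (iE l) 0 162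
noncomputable def IX (l : Nat) : Nat := fld (iE l) 162 15
noncomputable def IV (l : Nat) : Nat := fld (iE l) 177 15

/-- the list of involutions is closed under conjugation by the generators -/
noncomputable def chkI (l : Nat) : Bool :=
  Nat.blt (IX l) nI && Nat.blt (IV l) nI && Nat.beq (mul xP (LI l)) (mul (LI (IX l)) xP) &&
  Nat.beq (mul vP (LI l)) (mul (LI (IV l)) vP)

theorem chkI_spec {l : Nat} (h : chkI l = true) :
    IX l < nI ∧ IV l < nI ∧ mul xP (LI l) = mul (LI (IX l)) xP ∧
      mul vP (LI l) = mul (LI (IV l)) vP := by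
  unfold chkI at h
  simp only [Bool.and_eq_true] at h
  obtain ⟨⟨⟨a, b⟩, d⟩, e⟩ := h
  exact ⟨blt_sound a, blt_sound b, beq_sound d, beq_sound e⟩

/-- the powers of the element of order 17 -/
def xPow (a : Nat) : Nat := nth xPowL a

/-- a scalar matrix -/
def scal (a : Nat) : Bool := Nat.beq a PID || Nat.beq a WI || Nat.beq a W2I

theorem scal_of_Wp (b : Nat) (hb : b < 3) : scal (Wp b) = true := by
  interval_cases b <;> rfl

/-- the word `x^(k a₁) c x^(k a₂) c …` -/
def wordP (k : Nat) (xs : List Nat) (cc : Nat) : Nat :=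
  xs.foldl (fun M a => mul (mul M (xPow (Nat.mod (Nat.mul a k) 17))) cc) PID

/-- an involution with the relations of the generating involution with respect to the element of
order 17 is one of its 34 images under the centraliser of that element in the automorphism group -/
noncomputable def chkT1 (l : Nat) : Bool :=
  !(scal (ppow 3 (wordP 1 [1, 4] (LI l)))) || !(scal (ppow 3 (wordP 1 [1, 12, 15] (LI l)))) ||
  anyFrom 0 17 (fun i => Nat.beq (mul (LI l) (xPow i)) (mul (xPow i) cP) ||
    Nat.beq (mul (LI l) (xPow i)) (mul (xPow i) e0P))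

theorem chkT1_spec {l : Nat} (h : chkT1 l = true)
    (h1 : scal (ppow 3 (wordP 1 [1, 4] (LI l))) = true)
    (h2 : scal (ppow 3 (wordP 1 [1, 12, 15] (LI l))) = true) :
    ∃ i, i < 17 ∧ (mul (LI l) (xPow i) = mul (xPow i) cP ∨
      mul (LI l) (xPow i) = mul (xPow i) e0P) := by
  unfold chkT1 at h
  simp only [Bool.or_eq_true] at h
  rcases h with (h | h) | h
  · rw [h1] at h; exact Bool.noConfusion h
  · rw [h2] at h; exact Bool.noConfusion h
  · obtain ⟨i, hi, e⟩ := anyFrom_zero_spec h
    rw [Bool.or_eq_true] at e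
    exact ⟨i, hi, e.imp beq_sound beq_sound⟩

/-- no involution has, with respect to the cube of the element of order 17, the relations of the
generating involution -/
noncomputable def chkT3 (l : Nat) : Bool :=
  !(scal (ppow 4 (wordP 3 [1, 14, 8] (LI l)))) || !(scal (ppow 5 (wordP 3 [1, 10] (LI l))))

theorem chkT3_spec {l : Nat} (h : chkT3 l = true)
    (h1 : scal (ppow 4 (wordP 3 [1, 14, 8] (LI l))) = true)
    (h2 : scal (ppow 5 (wordP 3 [1, 10] (LI l))) = true) : False := by
  unfold chkT3 at h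
  rw [Bool.or_eq_true] at h
  rcases h with h | h
  · rw [h1] at h; exact Bool.noConfusion h
  · rw [h2] at h; exact Bool.noConfusion h

/-- the small checks -/
structure OutMisc : Prop where
  lTlt : lT < nI
  tI : LI lT = tP
  xpow : ∀ a, a < 17 → xPow a = ppow a xP
  w1 : scal (ppow 3 (wordP 1 [1, 4] cP)) = true
  w2 : scal (ppow 3 (wordP 1 [1, 12, 15] cP)) = true
  w3 : scal (ppow 4 (wordP 1 [1, 14, 8] cP)) = true
  w4 : scal (ppow 5 (wordP 1 [1, 10] cP)) = true
  n0 : kOf ln0 = n0P
  ln0lt : ln0 < nK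
  n0x : mul n0P xP = mul (ppow 2 xP) n0P
  cc : cP = mul (repOf cci) (kOf ccl)
  cclt : cci < nR ∧ ccl < nK
  pi2 : mul PiP PiP = PID
  xCb : ∀ z w : F9, bitsOf xC z w = conjCode (bitsOf xP z w)
  vCb : ∀ z w : F9, bitsOf vC z w = conjCode (bitsOf vP z w)
  sx : mul PiP (mul xC PiP) = mul (repOf sxi) (kOf sxl)
  sxlt : sxi < nR ∧ sxl < nK
  sv : mul PiP (mul vC PiP) = mul (repOf svi) (kOf svl)
  svlt : svi < nR ∧ svl < nK
  cne : cP ≠ PID
  e0lt : e0P < 2 ^ 162

/-- all the facts about automorphisms -/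
structure OutFacts : Prop where
  inv : InvFacts
  cls : ∀ l, l < nI → chkI l = true
  t1 : ∀ l, l < nI → chkT1 l = true
  t3 : ∀ l, l < nI → chkT3 l = true
  misc : OutMisc

end Cfsg.Agent.Lib.Helper95.J3
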