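import Mathlib

set_option autoImplicit false

/-! Packed 9 × 9 matrices over the field with four elements: one natural number of 162 bits, bit
`9 i + j` of the low plane (bits 0..80) is the coefficient of `1` in entry `(i, j)`, the same bit of
the high plane (bits 81..161) is the coefficient of `ω`.  The product uses outer products computed
by integer multiplication (no carries occur). -/

namespace Cfsg.Agent.Lib.Helper95.J3

/-- `Σ_{i<9} 2^(9 i)` -/
def MC : Nat := 4731607904558235517441

def alo (A k : Nat) : Nat := Nat.land (Nat.shiftRight A k) MC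
def ahi (A k : Nat) : Nat := Nat.land (Nat.shiftRight A (81 + k)) MC
def blo (B k : Nat) : Nat := Nat.land (Nat.shiftRight B (9 * k)) 511
def bhi (B k : Nat) : Nat := Nat.land (Nat.shiftRight B (81 + 9 * k)) 511

def stepLo (A B k : Nat) : Nat :=
  Nat.xor (Nat.mul (alo A k) (blo B k)) (Nat.mul (ahi A k) (bhi B k))

def stepHi (A B k : Nat) : Nat :=
  Nat.xor (Nat.mul (alo A k) (bhi B k)) (Nat.mul (ahi A k) (Nat.xor (blo B k) (bhi B k)))

def mulLo (A B : Nat) : Nat :=
  Nat.xor (Nat.xor (Nat.xor (Nat.xor (Nat.xor (Nat.xor (Nat.xor (Nat.xor (stepLo A B 0)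
    (stepLo A B 1)) (stepLo A B 2)) (stepLo A B 3)) (stepLo A B 4)) (stepLo A B 5))
    (stepLo A B 6)) (stepLo A B 7)) (stepLo A B 8)

def mulHi (A B : Nat) : Nat :=
  Nat.xor (Nat.xor (Nat.xor (Nat.xor (Nat.xor (Nat.xor (Nat.xor (Nat.xor (stepHi A B 0)
    (stepHi A B 1)) (stepHi A B 2)) (stepHi A B 3)) (stepHi A B 4)) (stepHi A B 5))
    (stepHi A B 6)) (stepHi A B 7)) (stepHi A B 8)

/-- the product of two packed matrices -/
def mul (A B : Nat) : Nat := Nat.lor (mulLo A B) (Nat.shiftLeft (mulHi A B) 81)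

/-! ### The outer product lemma -/

/-- `a` has bits only at multiples of 9 below `9 n` -/
def Sparse (n a : Nat) : Prop := ∀ p, a.testBit p = true → p % 9 = 0 ∧ p < 9 * n

theorem outer_testBit (n : Nat) : ∀ (a u : Nat), Sparse n a → u < 2 ^ 9 → ∀ p,
    (a * u).testBit p = (a.testBit (9 * (p / 9)) && u.testBit (p % 9)) := by
  induction n with
  | zero =>
    intro a u ha _ p
    have h0 : a = 0 := by
      apply Nat.eq_of_testBit_eq
      intro i
      rw [Nat.zero_testBit]
      by_contra h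
      have := (ha i (by simpa using h)).2
      omega
    subst h0
    simp
  | succ n ih =>
    intro a u ha hu p
    set a' := a / 2 ^ 9 with ha'
    set x := a % 2 ^ 9 with hx
    have hax : a = 2 ^ 9 * a' + x := (Nat.div_add_mod a (2 ^ 9)).symm
    have hbit' : ∀ q, a'.testBit q = a.testBit (9 + q) := by
      intro q
      rw [ha', ← Nat.shiftRight_eq_div_pow, Nat.testBit_shiftRight]
    have hsp : Sparse n a' := by
      intro q hq
      rw [hbit'] at hq
      have := ha _ hq
      omega
    have hxbit : ∀ q, x.testBit q = (decide (q < 9) && a.testBit q) := by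
      intro q
      rw [hx, Nat.testBit_mod_two_pow]
    have hx01 : x = if a.testBit 0 then 1 else 0 := by
      apply Nat.eq_of_testBit_eq
      intro q
      rw [hxbit]
      by_cases hq : q = 0
      · subst hq
        by_cases h0 : a.testBit 0 <;> simp [h0]
      · have hfalse : (decide (q < 9) && a.testBit q) = false := by
          by_contra hcon
          simp only [Bool.not_eq_false, Bool.and_eq_true, decide_eq_true_eq] at hcon
          have := ha _ hcon.2
          omega
        rw [hfalse]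
        by_cases h0 : a.testBit 0
        · simp only [h0, if_true]
          have h1 : (1 : Nat).testBit q = false := by
            cases q with
            | zero => exact absurd rfl hq
            | succ q => simp [Nat.testBit_succ]
          rw [h1]
        · simp [h0]
    have hxu : x * u < 2 ^ 9 := by
      rw [hx01]
      split_ifs <;> omega
    have hmul : a * u = 2 ^ 9 * (a' * u) + x * u := by
      conv_lhs => rw [hax]
      ring
    rw [hmul, Nat.testBit_two_pow_mul_add _ hxu]
    by_cases hp : p < 9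
    · rw [if_pos hp]
      have h1 : p / 9 = 0 := Nat.div_eq_of_lt hp
      have h2 : p % 9 = p := Nat.mod_eq_of_lt hp
      rw [h1, h2, hx01]
      by_cases h0 : a.testBit 0 <;> simp [h0]
    · rw [if_neg hp, ih a' u hsp hu, hbit']
      have h1 : 9 + 9 * ((p - 9) / 9) = 9 * (p / 9) := by omega
      have h2 : (p - 9) % 9 = p % 9 := by omega
      rw [h1, h2]

theorem outer_lt (a u : Nat) (ha : Sparse 9 a) (hu : u < 2 ^ 9) : a * u < 2 ^ 81 := by
  apply Nat.lt_pow_two_of_testBit
  intro i hi
  rw [outer_testBit 9 a u ha hu]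
  have : a.testBit (9 * (i / 9)) = false := by
    by_contra h
    have := (ha _ (by simpa using h)).2
    omega
  rw [this]
  rfl

theorem MC_testBit : ∀ p, p < 81 → MC.testBit p = decide (p % 9 = 0) := by decide

theorem MC_testBit_of_ge (p : Nat) (hp : 81 ≤ p) : MC.testBit p = false := by
  apply Nat.testBit_lt_two_pow
  have h1 : MC < 2 ^ 81 := by norm_num [MC]
  have h2 : 2 ^ 81 ≤ 2 ^ p := Nat.pow_le_pow_right (by norm_num) hp
  exact lt_of_lt_of_le h1 h2

theorem sparse_and_MC (x : Nat) : Sparse 9 (Nat.land x MC) := by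
  intro p hp
  have hp' : (x &&& MC).testBit p = true := hp
  rw [Nat.testBit_and, Bool.and_eq_true] at hp'
  by_cases h81 : p < 81
  · have := MC_testBit p h81
    rw [hp'.2] at this
    have h9 : p % 9 = 0 := by simpa using this.symm
    exact ⟨h9, by omega⟩
  · rw [MC_testBit_of_ge p (by omega)] at hp'
    exact absurd hp'.2 (by simp)

theorem and_MC_testBit (x i : Nat) (hi : i < 9) :
    (Nat.land x MC).testBit (9 * i) = x.testBit (9 * i) := by
  show (x &&& MC).testBit (9 * i) = _
  rw [Nat.testBit_and, MC_testBit (9 * i) (by omega)]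
  simp

theorem and_511_lt (x : Nat) : Nat.land x 511 < 2 ^ 9 := by
  show x &&& 511 < 2 ^ 9
  exact Nat.and_lt_two_pow x (by norm_num)

theorem and_511_testBit (x j : Nat) (hj : j < 9) : (Nat.land x 511).testBit j = x.testBit j := by
  show (x &&& 511).testBit j = _
  rw [Nat.testBit_and]
  have : (511 : Nat).testBit j = true := by
    interval_cases j <;> decide
  rw [this, Bool.and_true]


/-! ### Bits of the product -/

/-- coefficient of `1` in entry `(i, j)` -/
def lob (A i j : Nat) : Bool := A.testBit (9 * i + j)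
/-- coefficient of `ω` in entry `(i, j)` -/
def hib (A i j : Nat) : Bool := A.testBit (81 + (9 * i + j))

theorem alo_sparse (A k : Nat) : Sparse 9 (alo A k) := sparse_and_MC _
theorem ahi_sparse (A k : Nat) : Sparse 9 (ahi A k) := sparse_and_MC _
theorem blo_lt (B k : Nat) : blo B k < 2 ^ 9 := and_511_lt _
theorem bhi_lt (B k : Nat) : bhi B k < 2 ^ 9 := and_511_lt _

theorem alo_testBit (A k i : Nat) (hi : i < 9) : (alo A k).testBit (9 * i) = lob A i k := by
  unfold alo lob
  rw [and_MC_testBit _ _ hi]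
  show (A >>> k).testBit (9 * i) = _
  rw [Nat.testBit_shiftRight, Nat.add_comm]

theorem ahi_testBit (A k i : Nat) (hi : i < 9) : (ahi A k).testBit (9 * i) = hib A i k := by
  unfold ahi hib
  rw [and_MC_testBit _ _ hi]
  show (A >>> (81 + k)).testBit (9 * i) = _
  rw [Nat.testBit_shiftRight]
  congr 1
  omega

theorem blo_testBit (B k j : Nat) (hj : j < 9) : (blo B k).testBit j = lob B k j := by
  unfold blo lob
  rw [and_511_testBit _ _ hj]
  show (B >>> (9 * k)).testBit j = _
  rw [Nat.testBit_shiftRight]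

theorem bhi_testBit (B k j : Nat) (hj : j < 9) : (bhi B k).testBit j = hib B k j := by
  unfold bhi hib
  rw [and_511_testBit _ _ hj]
  show (B >>> (81 + 9 * k)).testBit j = _
  rw [Nat.testBit_shiftRight]
  congr 1
  omega

theorem outer_bit (a u i j : Nat) (ha : Sparse 9 a) (hu : u < 2 ^ 9) (hj : j < 9) :
    (Nat.mul a u).testBit (9 * i + j) = (a.testBit (9 * i) && u.testBit j) := by
  show (a * u).testBit (9 * i + j) = _
  rw [outer_testBit 9 a u ha hu]
  have h1 : (9 * i + j) / 9 = i := by omega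
  have h2 : (9 * i + j) % 9 = j := by omega
  rw [h1, h2]

theorem outer_lt' (a u : Nat) (ha : Sparse 9 a) (hu : u < 2 ^ 9) : Nat.mul a u < 2 ^ 81 :=
  outer_lt a u ha hu

/-- one term of the low plane of the product -/
def termLo (A B i j k : Nat) : Bool := (lob A i k && lob B k j) ^^ (hib A i k && hib B k j)
/-- one term of the high plane of the product -/
def termHi (A B i j k : Nat) : Bool :=
  (lob A i k && hib B k j) ^^ (hib A i k && (lob B k j ^^ hib B k j))

theorem xor_bb_lt (B k : Nat) : Nat.xor (blo B k) (bhi B k) < 2 ^ 9 :=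
  Nat.xor_lt_two_pow (blo_lt B k) (bhi_lt B k)

theorem stepLo_testBit (A B k i j : Nat) (hi : i < 9) (hj : j < 9) :
    (stepLo A B k).testBit (9 * i + j) = termLo A B i j k := by
  unfold stepLo termLo
  show (Nat.mul (alo A k) (blo B k) ^^^ Nat.mul (ahi A k) (bhi B k)).testBit (9 * i + j) = _
  rw [Nat.testBit_xor, outer_bit _ _ _ _ (alo_sparse A k) (blo_lt B k) hj,
    outer_bit _ _ _ _ (ahi_sparse A k) (bhi_lt B k) hj, alo_testBit _ _ _ hi, ahi_testBit _ _ _ hi,
    blo_testBit _ _ _ hj, bhi_testBit _ _ _ hj]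

theorem stepHi_testBit (A B k i j : Nat) (hi : i < 9) (hj : j < 9) :
    (stepHi A B k).testBit (9 * i + j) = termHi A B i j k := by
  unfold stepHi termHi
  show (Nat.mul (alo A k) (bhi B k) ^^^
    Nat.mul (ahi A k) (Nat.xor (blo B k) (bhi B k))).testBit (9 * i + j) = _
  rw [Nat.testBit_xor, outer_bit _ _ _ _ (alo_sparse A k) (bhi_lt B k) hj,
    outer_bit _ _ _ _ (ahi_sparse A k) (xor_bb_lt B k) hj, alo_testBit _ _ _ hi, ahi_testBit _ _ _ hi,
    bhi_testBit _ _ _ hj]
  show _ = ((lob A i k && hib B k j) ^^ (hib A i k && (lob B k j ^^ hib B k j)))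
  have : (Nat.xor (blo B k) (bhi B k)).testBit j = (lob B k j ^^ hib B k j) := by
    show (blo B k ^^^ bhi B k).testBit j = _
    rw [Nat.testBit_xor, blo_testBit _ _ _ hj, bhi_testBit _ _ _ hj]
  rw [this]

theorem stepLo_lt (A B k : Nat) : stepLo A B k < 2 ^ 81 :=
  Nat.xor_lt_two_pow (outer_lt' _ _ (alo_sparse A k) (blo_lt B k))
    (outer_lt' _ _ (ahi_sparse A k) (bhi_lt B k))

theorem stepHi_lt (A B k : Nat) : stepHi A B k < 2 ^ 81 :=
  Nat.xor_lt_two_pow (outer_lt' _ _ (alo_sparse A k) (bhi_lt B k))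
    (outer_lt' _ _ (ahi_sparse A k) (xor_bb_lt B k))

theorem xor_lt81 {a b : Nat} (h1 : a < 2 ^ 81) (h2 : b < 2 ^ 81) : Nat.xor a b < 2 ^ 81 :=
  Nat.xor_lt_two_pow h1 h2

theorem mulLo_lt (A B : Nat) : mulLo A B < 2 ^ 81 :=
  xor_lt81 (xor_lt81 (xor_lt81 (xor_lt81 (xor_lt81 (xor_lt81 (xor_lt81 (xor_lt81
    (stepLo_lt A B 0) (stepLo_lt A B 1)) (stepLo_lt A B 2)) (stepLo_lt A B 3)) (stepLo_lt A B 4))
    (stepLo_lt A B 5)) (stepLo_lt A B 6)) (stepLo_lt A B 7)) (stepLo_lt A B 8)

theorem mulHi_lt (A B : Nat) : mulHi A B < 2 ^ 81 :=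
  xor_lt81 (xor_lt81 (xor_lt81 (xor_lt81 (xor_lt81 (xor_lt81 (xor_lt81 (xor_lt81
    (stepHi_lt A B 0) (stepHi_lt A B 1)) (stepHi_lt A B 2)) (stepHi_lt A B 3)) (stepHi_lt A B 4))
    (stepHi_lt A B 5)) (stepHi_lt A B 6)) (stepHi_lt A B 7)) (stepHi_lt A B 8)

theorem mulLo_testBit (A B i j : Nat) (hi : i < 9) (hj : j < 9) :
    (mulLo A B).testBit (9 * i + j) =
      ((((((((termLo A B i j 0 ^^ termLo A B i j 1) ^^ termLo A B i j 2) ^^ termLo A B i j 3) ^^
        termLo A B i j 4) ^^ termLo A B i j 5) ^^ termLo A B i j 6) ^^ termLo A B i j 7) ^^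
        termLo A B i j 8) := by
  unfold mulLo
  simp only [← stepLo_testBit A B _ i j hi hj]
  show (stepLo A B 0 ^^^ stepLo A B 1 ^^^ stepLo A B 2 ^^^ stepLo A B 3 ^^^ stepLo A B 4 ^^^
    stepLo A B 5 ^^^ stepLo A B 6 ^^^ stepLo A B 7 ^^^ stepLo A B 8).testBit (9 * i + j) = _
  simp only [Nat.testBit_xor]

theorem mulHi_testBit (A B i j : Nat) (hi : i < 9) (hj : j < 9) :
    (mulHi A B).testBit (9 * i + j) =
      ((((((((termHi A B i j 0 ^^ termHi A B i j 1) ^^ termHi A B i j 2) ^^ termHi A B i j 3) ^^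
        termHi A B i j 4) ^^ termHi A B i j 5) ^^ termHi A B i j 6) ^^ termHi A B i j 7) ^^
        termHi A B i j 8) := by
  unfold mulHi
  simp only [← stepHi_testBit A B _ i j hi hj]
  show (stepHi A B 0 ^^^ stepHi A B 1 ^^^ stepHi A B 2 ^^^ stepHi A B 3 ^^^ stepHi A B 4 ^^^
    stepHi A B 5 ^^^ stepHi A B 6 ^^^ stepHi A B 7 ^^^ stepHi A B 8).testBit (9 * i + j) = _
  simp only [Nat.testBit_xor]

theorem mul_lt (A B : Nat) : mul A B < 2 ^ 162 := by
  unfold mul
  show mulLo A B ||| mulHi A B <<< 81 < 2 ^ 162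
  apply Nat.or_lt_two_pow
  · exact lt_of_lt_of_le (mulLo_lt A B) (Nat.pow_le_pow_right (by norm_num) (by norm_num))
  · rw [Nat.shiftLeft_eq]
    have := mulHi_lt A B
    calc mulHi A B * 2 ^ 81 < 2 ^ 81 * 2 ^ 81 := Nat.mul_lt_mul_of_pos_right this (by positivity)
      _ = 2 ^ 162 := by norm_num

theorem lob_mul (A B i j : Nat) (hi : i < 9) (hj : j < 9) :
    lob (mul A B) i j = (mulLo A B).testBit (9 * i + j) := by
  unfold lob mul
  show (mulLo A B ||| mulHi A B <<< 81).testBit (9 * i + j) = _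
  rw [Nat.testBit_or, Nat.testBit_shiftLeft]
  have : decide (9 * i + j ≥ 81) = false := by
    rw [decide_eq_false_iff_not]; omega
  rw [this, Bool.false_and, Bool.or_false]

theorem hib_mul (A B i j : Nat) (hi : i < 9) (hj : j < 9) :
    hib (mul A B) i j = (mulHi A B).testBit (9 * i + j) := by
  unfold hib mul
  show (mulLo A B ||| mulHi A B <<< 81).testBit (81 + (9 * i + j)) = _
  rw [Nat.testBit_or, Nat.testBit_shiftLeft]
  have h1 : (mulLo A B).testBit (81 + (9 * i + j)) = false := by
    apply Nat.testBit_lt_two_pow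
    exact lt_of_lt_of_le (mulLo_lt A B) (Nat.pow_le_pow_right (by norm_num) (by omega))
  have h2 : decide (81 + (9 * i + j) ≥ 81) = true := by
    rw [decide_eq_true_iff]; omega
  rw [h1, h2, Bool.false_or, Bool.true_and]
  congr 1
  omega

end Cfsg.Agent.Lib.Helper95.J3
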