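import Cfsg.Agent.Lib.Helper95.J3.Pack
import Cfsg.Prelude.Def_Spor_J3

set_option autoImplicit false

/-! Semantics of packed matrices: `sem ω A` is the 9 × 9 matrix over a field of characteristic two
containing a root `ω` of `X² + X + 1`. -/

namespace Cfsg.Agent.Lib.Helper95.J3

open Cfsg.Spor

/-- position of an index in the packed matrices -/
def idx (z : F9) : Nat := 3 * z.1.val + z.2.val

/-- the index at a position -/
def unidx (k : Nat) : F9 := (((k / 3 : Nat) : ZMod 3), ((k % 3 : Nat) : ZMod 3))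

theorem idx_lt : ∀ z : F9, idx z < 9 := by decide

theorem idx_unidx : ∀ k, k < 9 → idx (unidx k) = k := by decide

theorem unidx_idx : ∀ z : F9, unidx (idx z) = z := by decide

theorem idx_injective : Function.Injective idx := by
  intro a b h
  rw [← unidx_idx a, ← unidx_idx b, h]

theorem range_eq_image : Finset.range 9 = Finset.univ.image idx := by decide

section
variable {F : Type*} [Field F]

/-- a bit as a field element -/
def b2f (b : Bool) : F := bif b then 1 else 0

/-- the element `l + h ω` -/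
def toF (ω : F) (l h : Bool) : F := b2f l + b2f h * ω

/-- entry `(i, j)` of a packed matrix -/
def semN (ω : F) (A i j : Nat) : F := toF ω (lob A i j) (hib A i j)

/-- the matrix of a packed matrix -/
def sem (ω : F) (A : Nat) : Matrix F9 F9 F := Matrix.of fun z w => semN ω A (idx z) (idx w)

theorem sem_apply (ω : F) (A : Nat) (z w : F9) : sem ω A z w = semN ω A (idx z) (idx w) := rfl

theorem sum_idx (f : Nat → F) : ∑ y : F9, f (idx y) = ∑ k ∈ Finset.range 9, f k := by
  rw [range_eq_image, Finset.sum_image (fun a _ b _ h => idx_injective h)]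

theorem b2f_and (a b : Bool) : (b2f (a && b) : F) = b2f a * b2f b := by
  cases a <;> cases b <;> simp [b2f]

theorem b2f_xor (h2 : (2 : F) = 0) (a b : Bool) : (b2f (a ^^ b) : F) = b2f a + b2f b := by
  cases a <;> cases b <;> simp [b2f]
  rw [one_add_one_eq_two, h2]

theorem toF_xor (h2 : (2 : F) = 0) (ω : F) (l h l' h' : Bool) :
    toF ω (l ^^ l') (h ^^ h') = toF ω l h + toF ω l' h' := by
  unfold toF
  rw [b2f_xor h2, b2f_xor h2]
  ring

theorem omega_sq (h2 : (2 : F) = 0) {ω : F} (hω : ω ^ 2 + ω + 1 = 0) : ω ^ 2 = ω + 1 := by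
  linear_combination hω - (ω + 1) * h2

theorem toF_mul (h2 : (2 : F) = 0) {ω : F} (hω : ω ^ 2 + ω + 1 = 0) (a b c d : Bool) :
    toF ω ((a && c) ^^ (b && d)) ((a && d) ^^ (b && (c ^^ d))) = toF ω a b * toF ω c d := by
  unfold toF
  rw [b2f_xor h2, b2f_xor h2, b2f_and, b2f_and, b2f_and, b2f_and, b2f_xor h2]
  linear_combination (-(b2f b * b2f d : F)) * (omega_sq h2 hω)

theorem semN_mul (h2 : (2 : F) = 0) {ω : F} (hω : ω ^ 2 + ω + 1 = 0) (A B i j : Nat) (hi : i < 9)
    (hj : j < 9) :
    semN ω (mul A B) i j = ∑ k ∈ Finset.range 9, semN ω A i k * semN ω B k j := by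
  unfold semN
  rw [lob_mul A B i j hi hj, hib_mul A B i j hi hj, mulLo_testBit A B i j hi hj,
    mulHi_testBit A B i j hi hj]
  simp only [toF_xor h2, Finset.sum_range_succ, Finset.sum_range_zero, zero_add]
  simp only [termLo, termHi, toF_mul h2 hω]

theorem sem_mul (h2 : (2 : F) = 0) {ω : F} (hω : ω ^ 2 + ω + 1 = 0) (A B : Nat) :
    sem ω (mul A B) = sem ω A * sem ω B := by
  ext z w
  rw [Matrix.mul_apply, sem_apply, semN_mul h2 hω A B _ _ (idx_lt z) (idx_lt w)]
  rw [← sum_idx (fun k => semN ω A (idx z) k * semN ω B k (idx w))]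
  rfl

/-! ### Injectivity -/

theorem omega_ne_zero {ω : F} (hω : ω ^ 2 + ω + 1 = 0) : ω ≠ 0 := by
  rintro rfl
  simp at hω

theorem omega_ne_one (h2 : (2 : F) = 0) {ω : F} (hω : ω ^ 2 + ω + 1 = 0) : ω ≠ 1 := by
  rintro rfl
  have : (1 : F) = 0 := by linear_combination hω - h2
  exact one_ne_zero this

theorem one_add_omega_ne_zero (h2 : (2 : F) = 0) {ω : F} (hω : ω ^ 2 + ω + 1 = 0) : 1 + ω ≠ 0 := by
  intro h
  apply omega_ne_one h2 hω
  linear_combination h - h2

theorem toF_injective (h2 : (2 : F) = 0) {ω : F} (hω : ω ^ 2 + ω + 1 = 0) (l h l' h' : Bool)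
    (e : toF ω l h = toF ω l' h') : l = l' ∧ h = h' := by
  have h0 := omega_ne_zero hω
  have h1 := omega_ne_one h2 hω
  have h3 := one_add_omega_ne_zero h2 hω
  have h10 : (1 : F) ≠ 0 := one_ne_zero
  cases l <;> cases h <;> cases l' <;> cases h' <;> simp [toF, b2f] at e <;>
    first
    | exact ⟨rfl, rfl⟩
    | (exfalso; first
        | exact h0 e | exact h0 e.symm | exact h1 e | exact h1 e.symm | exact h3 e
        | exact h3 e.symm | exact h10 e | exact h10 e.symm)

theorem sem_inj (h2 : (2 : F) = 0) {ω : F} (hω : ω ^ 2 + ω + 1 = 0) {A B : Nat} (hA : A < 2 ^ 162)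
    (hB : B < 2 ^ 162) (e : sem ω A = sem ω B) : A = B := by
  have hb : ∀ i j, i < 9 → j < 9 → lob A i j = lob B i j ∧ hib A i j = hib B i j := by
    intro i j hi hj
    have := congrFun (congrFun e (unidx i)) (unidx j)
    rw [sem_apply, sem_apply, idx_unidx i hi, idx_unidx j hj] at this
    exact toF_injective h2 hω _ _ _ _ this
  apply Nat.eq_of_testBit_eq
  intro p
  by_cases hp : p < 81
  · have := (hb (p / 9) (p % 9) (by omega) (by omega)).1
    unfold lob at this
    rwa [show 9 * (p / 9) + p % 9 = p by omega] at this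
  · by_cases hp2 : p < 162
    · have := (hb ((p - 81) / 9) ((p - 81) % 9) (by omega) (by omega)).2
      unfold hib at this
      rwa [show 81 + (9 * ((p - 81) / 9) + (p - 81) % 9) = p by omega] at this
    · have hle : 2 ^ 162 ≤ 2 ^ p := Nat.pow_le_pow_right (by norm_num) (by omega)
      rw [Nat.testBit_lt_two_pow (lt_of_lt_of_le hA hle),
        Nat.testBit_lt_two_pow (lt_of_lt_of_le hB hle)]

/-! ### Matrices given by codes -/

/-- the two bits of an entry -/
def bitsOf (A : Nat) (z w : F9) : Bool × Bool := (lob A (idx z) (idx w), hib A (idx z) (idx w))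

/-- the field element of a code -/
def dec (ω : F) (c : Bool × Bool) : F := toF ω c.1 c.2

theorem sem_eq_of_bits (ω : F) (A : Nat) (M : Matrix F9 F9 F) (code : F9 → F9 → Bool × Bool)
    (hM : ∀ z w, M z w = dec ω (code z w)) (hc : ∀ z w, code z w = bitsOf A z w) :
    M = sem ω A := by
  ext z w
  rw [hM, hc]
  rfl

theorem dec_ff (ω : F) : dec ω (false, false) = 0 := by simp [dec, toF, b2f]
theorem dec_tf (ω : F) : dec ω (true, false) = 1 := by simp [dec, toF, b2f]
theorem dec_ft (ω : F) : dec ω (false, true) = ω := by simp [dec, toF, b2f]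
theorem dec_tt (h2 : (2 : F) = 0) {ω : F} (hω : ω ^ 2 + ω + 1 = 0) : dec ω (true, true) = ω ^ 2 := by
  rw [omega_sq h2 hω]
  simp [dec, toF, b2f, add_comm]

end

end Cfsg.Agent.Lib.Helper95.J3
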